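import Cfsg.Agent.H13.Ext.Core

/-!
The dual of the binary code modulo the extra point as an extension module of `M23`.
-/

set_option autoImplicit false

namespace Cfsg.Agent.H13.Ext

open Cfsg.Agent.H12

/-- The word supported on the first eleven points with given values. -/
def fword (u : V) : GolayPt → ZMod 2 := fun p => uget u (idx p)

/-- A word is trivial in the cocode modulo the extra point. -/
def InKer (w : GolayPt → ZMod 2) : Prop := w ∈ golayCode ∨ w + Pi.single none 1 ∈ golayCode

/-- The mask of a function on the first `k` numbers. -/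
def toMask (f : ℕ → ZMod 2) : ℕ → ℕ
  | 0 => 0
  | k + 1 => (if f k = 0 then 0 else 2 ^ k) ^^^ toMask f k

theorem testBit_toMask (f : ℕ → ZMod 2) :
    ∀ k i, (toMask f k).testBit i = (decide (i < k) && !decide (f i = 0))
  | 0, i => by simp [toMask]
  | k + 1, i => by
    rw [toMask, Nat.testBit_xor, testBit_toMask f k i]
    rcases eq_or_ne i k with rfl | hne
    · by_cases h : f i = 0 <;> simp [h]
    · have h1 : (if f k = 0 then 0 else 2 ^ k : ℕ).testBit i = false := by
        split
        · simp
        · simp [Nat.testBit_two_pow, Ne.symm hne]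
      rw [h1, Bool.false_xor]
      congr 1
      simp only [decide_eq_decide]
      omega

theorem toMask_lt (f : ℕ → ZMod 2) : toMask f 24 < 2 ^ 24 := by
  apply Nat.lt_pow_two_of_testBit
  intro i hi
  rw [testBit_toMask]
  simp [show ¬ i < 24 by omega]

theorem word_toMask (f : ℕ → ZMod 2) : word (toMask f 24) = fun p => f (idx p) := by
  funext p
  rw [word, testBit_toMask]
  rcases (show ∀ x : ZMod 2, x = 0 ∨ x = 1 by decide) (f (idx p)) with h | h <;>
    simp [h, idx_lt p]

/-- The test for the kernel of the module. -/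
def inKerB (m : ℕ) : Bool := isCode m || isCode (m ^^^ 8388608)

theorem word_none_bit : word 8388608 = Pi.single (none : GolayPt) 1 := by
  funext p
  have hb : Nat.testBit 8388608 (idx p) = decide (idx p = 23) := by
    have h := idx_lt p
    have : ∀ i, i < 24 → Nat.testBit 8388608 i = decide (i = 23) := by decide +kernel
    exact this _ h
  rw [word, hb, Pi.single_apply]
  by_cases hp : p = none
  · subst hp; rfl
  · have : idx p ≠ 23 := by
      intro e
      exact hp (by rw [← pt_idx p, e]; rfl)
    simp [hp, this]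

theorem inKer_word {m : ℕ} (hm : m < 2 ^ 24) : InKer (word m) ↔ inKerB m = true := by
  rw [InKer, inKerB, Bool.or_eq_true, word_mem_iff hm, ← word_none_bit, ← word_xor,
    word_mem_iff (Nat.xor_lt_two_pow hm (by decide))]

theorem inKer_fun (f : ℕ → ZMod 2) :
    InKer (fun p => f (idx p)) ↔ inKerB (toMask f 24) = true := by
  rw [← word_toMask, inKer_word (toMask_lt f)]

theorem InKer.add {v w : GolayPt → ZMod 2} (hv : InKer v) (hw : InKer w) : InKer (v + w) := by
  have h2 : ∀ x : GolayPt → ZMod 2, x + x = 0 := fun x => funext fun p => CharTwo.add_self_eq_zero _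
  rcases hv with hv | hv <;> rcases hw with hw | hw
  · exact Or.inl (Submodule.add_mem _ hv hw)
  · exact Or.inr (by rw [add_assoc]; exact Submodule.add_mem _ hv hw)
  · exact Or.inr (by rw [add_right_comm]; exact Submodule.add_mem _ hv hw)
  · have := Submodule.add_mem _ hv hw
    rw [add_add_add_comm, h2, add_zero] at this
    exact Or.inl this

theorem uget_add' (u v : V) (j : ℕ) : uget (u + v) j = uget u j + uget v j := by
  unfold uget
  split <;> simp

theorem fword_add (u v : V) : fword (u + v) = fword u + fword v :=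
  funext fun _ => uget_add' u v _

theorem lin_add' (m : List (List ℕ)) (u v : V) : lin m (u + v) = lin m u + lin m v := by
  funext c
  simp only [lin, Pi.add_apply]
  induction m.getD (c : ℕ) [] with
  | nil => simp
  | cons j row ih =>
    simp only [List.map_cons, List.sum_cons, ih, uget_add']
    abel

/-- An additive condition true on the unit vectors is true everywhere. -/
theorem of_single {M : Type*} [AddCommMonoid M] {P : M → Prop} (f : V → M)
    (hadd : ∀ u v, f (u + v) = f u + f v) (h0 : P (f 0))
    (hP : ∀ a b, P a → P b → P (a + b)) (h : ∀ j, P (f (Pi.single j 1))) (u : V) : P (f u) := by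
  have hu := Finset.univ_sum_single u
  rw [← hu]
  refine Finset.sum_induction _ (fun v => P (f v)) (fun a b ha hb => ?_) h0 fun j _ => ?_
  · rw [hadd]; exact hP _ _ ha hb
  · rcases (show ∀ x : ZMod 2, x = 0 ∨ x = 1 by decide) (u j) with hx | hx <;> rw [hx]
    · rw [Pi.single_zero]; exact h0
    · exact h j

/-- Coordinates of the unit words. -/
def resTab : List ℕ := [1, 2, 4, 8, 16, 32, 64, 128, 256, 512, 1024, 1141, 1183, 1355, 1763, 435,
  870, 1740, 493, 986, 1972, 797, 1594, 0]

/-- The coordinate vector of a number. -/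
def bitsV (t : ℕ) : V := fun c => if t.testBit c then 1 else 0

/-- Moving a basis word by a generator, against the matrix. -/
def conjDiff (k : ℕ) (j : Fin 11) (n : ℕ) : ZMod 2 :=
  uget (Pi.single j 1) (app (genP k) n) +
    uget (lin (cocodeMats.getD k []) (Pi.single j 1)) n

/-- A unit word against its coordinates. -/
def resDiff (i : ℕ) (n : ℕ) : ZMod 2 :=
  (if n = i then 1 else 0) + uget (bitsV (resTab.getD i 0)) n

theorem cocode_conj : ∀ k, k < extGens.length → ∀ j : Fin 11,
    inKerB (toMask (conjDiff k j) 24) = true := by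
  decide +kernel

theorem cocode_res : ∀ i, i < 24 → inKerB (toMask (resDiff i) 24) = true := by
  decide +kernel

theorem cocode_free : ∀ a, a < 64 → ∀ b, b < 64 →
    (codeWord (64 * a + b) < 2048 → codeWord (64 * a + b) = 0) ∧
      ¬ codeWord (64 * a + b) ^^^ 8388608 < 2048 := by
  decide +kernel

theorem fword_inj_ker {u : V} (h : InKer (fword u)) : u = 0 := by
  have h' := (inKer_fun (uget u)).mp h
  set m := toMask (uget u) 24 with hm
  have hlt : m < 2048 := by
    rw [show (2048 : ℕ) = 2 ^ 11 from rfl]
    apply Nat.lt_pow_two_of_testBit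
    intro i hi
    rw [hm, testBit_toMask, uget, dif_neg (by omega)]
    simp
  have key : ∀ x, isCode x = true →
      (x < 2048 → x = 0) ∧ ¬ x ^^^ 8388608 < 2048 := by
    intro x hx
    rw [isCode_def, beq_iff_eq] at hx
    have hlt : x &&& 4095 < 4096 := Nat.lt_succ_of_le Nat.and_le_right
    have := cocode_free ((x &&& 4095) / 64) (by omega) ((x &&& 4095) % 64) (by omega)
    rwa [Nat.div_add_mod, hx] at this
  have hm0 : m = 0 := by
    rw [inKerB, Bool.or_eq_true] at h'
    rcases h' with h' | h'
    · exact (key m h').1 hlt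
    · exact absurd (by rwa [Nat.xor_assoc, Nat.xor_self, Nat.xor_zero]) (key _ h').2
  funext c
  have := testBit_toMask (uget u) 24 (c : ℕ)
  rw [← hm, hm0, Nat.zero_testBit, uget, dif_pos c.isLt] at this
  simpa [show (c : ℕ) < 24 by omega] using this.symm

theorem exists_fword_single (p : GolayPt) : ∃ u, InKer (Pi.single p 1 + fword u) := by
  refine ⟨bitsV (resTab.getD (idx p) 0), ?_⟩
  have h := (inKer_fun (resDiff (idx p))).mpr (cocode_res _ (idx_lt p))
  convert h using 1
  funext q
  rw [Pi.add_apply, fword, resDiff, Pi.single_apply]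
  congr 1
  by_cases hq : q = p
  · subst hq; simp
  · have : idx q ≠ idx p := fun e => hq (by rw [← pt_idx q, e, pt_idx])
    simp [hq, this]

theorem fword_conj_ker {k : ℕ} (hk : k < extGens.length) (u : V) :
    InKer (fword u ∘ ⇑((gM k : ↥Spor.M23) : Equiv.Perm GolayPt) +
      fword (lin (cocodeMats.getD k []) u)) := by
  refine of_single (P := InKer) (fun u => fword u ∘ ⇑((gM k : ↥Spor.M23) : Equiv.Perm GolayPt) +
    fword (lin (cocodeMats.getD k []) u)) (fun a b => ?_) ?_ (fun a b => InKer.add) (fun j => ?_) u
  · rw [lin_add', fword_add, fword_add]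
    exact add_add_add_comm _ _ _ _
  · left
    convert Submodule.zero_mem golayCode using 1
    funext p
    simp [fword, uget, lin]
    intro _
    generalize (cocodeMats[k]?.getD [])[idx p]?.getD [] = l
    induction l with
    | nil => rfl
    | cons a l ih =>
      rw [List.map_cons, List.sum_cons, ih, add_zero]
      unfold uget
      split <;> rfl
  · convert (inKer_fun (conjDiff k j)).mpr (cocode_conj k hk j) using 1
    funext p
    rw [Pi.add_apply, Function.comp_apply, gM_coe hk, fword, fword, conjDiff,
      permOf_apply (genP_perm hk), idx_pt (app_lt (genP_perm hk) (idx_lt p))]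

variable {E : Type*} [Group E] (N : Subgroup E) [hN : N.Normal]
  (φ : E ⧸ N ≃* ↥Spor.M23) (θ : (GolayPt → ZMod 2) →+ Additive ↥N)

/-- An element of `N` given by a word. -/
def thetaE (w : GolayPt → ZMod 2) : E := ((θ w).toMul : E)

/-- The map to `M23`. -/
def projM : E →* ↥Spor.M23 := φ.toMonoidHom.comp (QuotientGroup.mk' N)

omit hN in
theorem thetaE_add (v w : GolayPt → ZMod 2) :
    thetaE N θ (v + w) = thetaE N θ v * thetaE N θ w := by
  rw [thetaE, map_add]
  rfl

variable (hker : ∀ w, θ w = 0 ↔ InKer w)

omit hN in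
include hker in
theorem thetaE_eq {v w : GolayPt → ZMod 2} (h : InKer (v + w)) :
    thetaE N θ v = thetaE N θ w := by
  have h0 := (hker _).mpr h
  rw [map_add] at h0
  have hw : θ w + θ w = 0 := by rw [← map_add,
    show w + w = 0 from funext fun p => CharTwo.add_self_eq_zero _, map_zero]
  rw [thetaE, thetaE, add_right_cancel (h0.trans hw.symm)]

theorem ker_projM : (projM N φ).ker = N := by
  ext x
  rw [MonoidHom.mem_ker]
  show φ (QuotientGroup.mk x) = 1 ↔ _
  rw [map_eq_one_iff φ φ.injective, QuotientGroup.eq_one_iff]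

variable (hsurj : Function.Surjective θ)
  (hθ : ∀ (g : E) (w : GolayPt → ZMod 2),
    ((θ (w ∘ ⇑(((φ (QuotientGroup.mk g) : ↥Spor.M23) : Equiv.Perm GolayPt)⁻¹))).toMul : E)
      = g * ((θ w).toMul : E) * g⁻¹)

omit hN in
include hker hsurj in
theorem exists_fword (x : E) (hx : x ∈ N) : ∃ u, thetaE N θ (fword u) = x := by
  obtain ⟨w, hw⟩ := hsurj (Additive.ofMul ⟨x, hx⟩)
  have hwx : thetaE N θ w = x := by rw [thetaE, hw]; rfl
  rw [← hwx, ← Finset.univ_sum_single w]
  refine Finset.sum_induction _ (fun v => ∃ u, thetaE N θ (fword u) = thetaE N θ v) ?_ ?_ ?_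
  · rintro a b ⟨u, hu⟩ ⟨v, hv⟩
    exact ⟨u + v, by rw [fword_add, thetaE_add, thetaE_add, hu, hv]⟩
  · exact ⟨0, by rw [show fword (0 : V) = 0 from funext fun p => by simp [fword, uget]]⟩
  · intro p _
    rcases (show ∀ x : ZMod 2, x = 0 ∨ x = 1 by decide) (w p) with h | h <;> rw [h]
    · exact ⟨0, by rw [show fword (0 : V) = 0 from funext fun p => by simp [fword, uget],
        Pi.single_zero]⟩
    · obtain ⟨u, hu⟩ := exists_fword_single p
      exact ⟨u, (thetaE_eq N θ hker hu).symm⟩

include hker hsurj hθ in
theorem cocodeModule : Module11 cocodeMats (projM N φ) (fun u => thetaE N θ (fword u)) where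
  hadd u v := by rw [fword_add, thetaE_add]
  hinj u v h := by
    have h2 : thetaE N θ (fword (u + v)) = thetaE N θ 0 := by
      rw [fword_add, thetaE_add]
      show thetaE N θ (fword u) * thetaE N θ (fword v) = _
      rw [show thetaE N θ (fword u) = thetaE N θ (fword v) from h, ← thetaE_add,
        show fword v + fword v = 0 from funext fun p => CharTwo.add_self_eq_zero _]
    have h3 : θ (fword (u + v)) = θ 0 := Additive.toMul.injective (Subtype.ext h2)
    rw [map_zero, hker] at h3
    have := fword_inj_ker h3
    funext c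
    have h4 := congrFun this c
    rw [Pi.add_apply, Pi.zero_apply] at h4
    revert h4
    generalize u c = a
    generalize v c = b
    revert a b
    decide
  hker x := by
    rw [← MonoidHom.mem_ker, ker_projM N φ]
    exact ⟨fun hx => exists_fword N θ hker hsurj x hx, by rintro ⟨u, rfl⟩; exact SetLike.coe_mem _⟩
  hsurj := φ.surjective.comp (QuotientGroup.mk'_surjective N)
  hconj x i hi hx u := by
    have h := hθ x⁻¹ (fword u)
    rw [show φ (QuotientGroup.mk x⁻¹) = (gM i)⁻¹ by
      show projM N φ x⁻¹ = _; rw [map_inv, hx]] at h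
    rw [show (((gM i)⁻¹ : ↥Spor.M23) : Equiv.Perm GolayPt)⁻¹ = (gM i : Equiv.Perm GolayPt) by
      rw [Subgroup.coe_inv, inv_inv], inv_inv] at h
    rw [← thetaE_eq N θ hker (fword_conj_ker hi u)]
    exact h.symm

theorem cocode_lengths : cocodeMats.length = extGens.length ∧ extRels.length = 49 := by
  decide +kernel

theorem cocode_cert : splitOK cocodeMats extRels
    ([cocodeFun] ++ cocodeLoops.flatMap (loopEq cocodeMats extRels)) 28 cocodeLift cocodeSel =
      true := by
  decide +kernel

/-- Without a complement the distinguished functional of any lifts is one. -/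
theorem fun_eq_one_of_nonsplit {Γ : Type*} [Group Γ] [Finite Γ] {π : Γ →* ↥Spor.M23} {ι : V → Γ}
    (M : Module11 cocodeMats π ι) {e : ℕ → Γ} (he : ∀ i, π (e i) = gM i) {σ : ℕ → ZMod 2}
    (S : Setup cocodeMats extRels σ e ι)
    (hns : ∀ H : Subgroup Γ, H ⊓ π.ker = ⊥ → H ⊔ π.ker ≠ ⊤) :
    mval 539 σ cocodeFun = 1 := by
  rcases (show ∀ x : ZMod 2, x = 0 ∨ x = 1 by decide) (mval 539 σ cocodeFun) with h | h
  · obtain ⟨v, hv⟩ := S.exists_lifts (NB := 539) (by rw [cocode_lengths.2])
      (extra := [cocodeFun]) (by simpa using h) cocode_cert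
    obtain ⟨H, h1, h2⟩ := M.exists_complement (e := fun i => e i * ι (v i))
      (fun i => by rw [map_mul, he, (M.hker _).mpr ⟨v i, rfl⟩, mul_one]) hv
    exact absurd h2 (hns H h1)
  · exact h

end Cfsg.Agent.H13.Ext
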