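import Cfsg.Agent.H13.Ext.CocodeModule

/-!
Two non-split extensions of `M23` by the dual code module are isomorphic: their difference splits.
-/

set_option autoImplicit false

namespace Cfsg.Agent.H13.Ext

open Cfsg.Agent.H12

section Difference

variable {E : Type*} [Group E] {E' : Type*} [Group E'] (π : E →* ↥Spor.M23) (π' : E' →* ↥Spor.M23)

/-- The fibre product. -/
def fibre : Subgroup (E × E') where
  carrier := {x | π x.1 = π' x.2}
  one_mem' := by simp
  mul_mem' := fun {x y} hx hy => by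
    show π (x.1 * y.1) = π' (x.2 * y.2)
    rw [map_mul, map_mul, show π x.1 = π' x.2 from hx, show π y.1 = π' y.2 from hy]
  inv_mem' := fun {x} hx => by
    show π x.1⁻¹ = π' x.2⁻¹
    rw [map_inv, map_inv, show π x.1 = π' x.2 from hx]

theorem mem_fibre {x : E × E'} : x ∈ fibre π π' ↔ π x.1 = π' x.2 := Iff.rfl

end Difference

theorem uniqueness {E : Type*} [Group E] [Finite E] (N : Subgroup E) [hN : N.Normal]
    (φ : E ⧸ N ≃* ↥Spor.M23) (θ : (GolayPt → ZMod 2) →+ Additive ↥N)
    (hsurj : Function.Surjective θ) (hker : ∀ w, θ w = 0 ↔ InKer w)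
    (hθ : ∀ (g : E) (w : GolayPt → ZMod 2),
      ((θ (w ∘ ⇑(((φ (QuotientGroup.mk g) : ↥Spor.M23) : Equiv.Perm GolayPt)⁻¹))).toMul : E)
        = g * ((θ w).toMul : E) * g⁻¹)
    (hns : ∀ H : Subgroup E, H ⊓ N = ⊥ → H ⊔ N ≠ ⊤)
    {E' : Type*} [Group E'] [Finite E'] (N' : Subgroup E') [hN' : N'.Normal]
    (φ' : E' ⧸ N' ≃* ↥Spor.M23) (θ' : (GolayPt → ZMod 2) →+ Additive ↥N')
    (hsurj' : Function.Surjective θ') (hker' : ∀ w, θ' w = 0 ↔ InKer w)
    (hθ' : ∀ (g : E') (w : GolayPt → ZMod 2),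
      ((θ' (w ∘ ⇑(((φ' (QuotientGroup.mk g) : ↥Spor.M23) : Equiv.Perm GolayPt)⁻¹))).toMul : E')
        = g * ((θ' w).toMul : E') * g⁻¹)
    (hns' : ∀ H : Subgroup E', H ⊓ N' = ⊥ → H ⊔ N' ≠ ⊤) :
    Nonempty (E ≃* E') := by
  classical
  set π := projM N φ
  set π' := projM N' φ'
  set t := thetaE N θ with ht
  set t' := thetaE N' θ' with ht'
  have M := cocodeModule N φ θ hker hsurj hθ
  have M' := cocodeModule N' φ' θ' hker' hsurj' hθ'
  have hk : π.ker = N := ker_projM N φ
  have hk' : π'.ker = N' := ker_projM N' φ'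
  obtain ⟨e, σ, he, S⟩ := M.exists_setup cocode_lengths.1
  obtain ⟨e', σ', he', S'⟩ := M'.exists_setup cocode_lengths.1
  have hf := fun_eq_one_of_nonsplit M he S (by intro H; rw [hk]; exact hns H)
  have hf' := fun_eq_one_of_nonsplit M' he' S' (by intro H; rw [hk']; exact hns' H)
  have hxx : ∀ w : GolayPt → ZMod 2, w + w = 0 :=
    fun w => funext fun p => CharTwo.add_self_eq_zero _
  have ht0 : t 0 = 1 := by simp [ht, thetaE]
  have ht0' : t' 0 = 1 := by simp [ht', thetaE]
  have hπt : ∀ w, π (t w) = 1 := fun w => MonoidHom.mem_ker.mp (by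
    rw [hk]; exact SetLike.coe_mem _)
  have hπt' : ∀ w, π' (t' w) = 1 := fun w => MonoidHom.mem_ker.mp (by
    rw [hk']; exact SetLike.coe_mem _)
  have htP : ∀ v w, (t v, t' w) ∈ fibre π π' := fun v w => by
    rw [mem_fibre, hπt, hπt']
  have htmul : ∀ v w, t (v + w) = t v * t w := fun v w => thetaE_add N θ v w
  have htmul' : ∀ v w, t' (v + w) = t' v * t' w := fun v w => thetaE_add N' θ' v w
  have htt : ∀ w, t w * t w = 1 := fun w => by rw [← htmul, hxx, ht0]
  have htt' : ∀ w, t' w * t' w = 1 := fun w => by rw [← htmul', hxx, ht0']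
  have htker : ∀ w, t w = 1 → t' w = 1 := fun w h => by
    have h0 : θ w = 0 := Additive.toMul.injective (Subtype.ext h)
    have h1 : θ' w = 0 := (hker' w).mpr ((hker w).mp h0)
    rw [ht', thetaE, h1]; rfl
  have htker' : ∀ w, t' w = 1 → t w = 1 := fun w h => by
    have h0 : θ' w = 0 := Additive.toMul.injective (Subtype.ext h)
    have h1 : θ w = 0 := (hker w).mpr ((hker' w).mp h0)
    rw [ht, thetaE, h1]; rfl
  -- the antidiagonal
  let D : Subgroup ↥(fibre π π') :=
    { carrier := {x | ∃ w, x.1 = (t w, t' w)}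
      one_mem' := ⟨0, by rw [ht0, ht0']; rfl⟩
      mul_mem' := fun {x y} hx hy => by
        obtain ⟨v, hv⟩ := hx
        obtain ⟨w, hw⟩ := hy
        exact ⟨v + w, by rw [htmul, htmul', Subgroup.coe_mul, hv, hw]; rfl⟩
      inv_mem' := fun {x} hx => by
        obtain ⟨v, hv⟩ := hx
        refine ⟨v, ?_⟩
        rw [Subgroup.coe_inv, hv]
        exact Prod.ext (inv_eq_of_mul_eq_one_left (htt v)) (inv_eq_of_mul_eq_one_left (htt' v)) }
  haveI hD : D.Normal := by
    refine ⟨?_⟩
    rintro ⟨d, hd⟩ ⟨w, hw⟩ ⟨⟨x, x'⟩, hx⟩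
    refine ⟨w ∘ ⇑(((π x : ↥Spor.M23) : Equiv.Perm GolayPt)⁻¹), ?_⟩
    have hpx : π x = π' x' := hx
    change ((x, x') : E × E') * d * (x, x')⁻¹ = _
    change d = _ at hw
    rw [hw]
    refine Prod.ext ?_ ?_
    · exact (hθ x w).symm
    · show x' * t' w * x'⁻¹ = _
      rw [hpx]
      exact (hθ' x' w).symm
  let mk : ↥(fibre π π') →* ↥(fibre π π') ⧸ D := QuotientGroup.mk' D
  let πP : ↥(fibre π π') →* ↥Spor.M23 := (π.comp (MonoidHom.fst E E')).comp (fibre π π').subtype
  let πΓ : ↥(fibre π π') ⧸ D →* ↥Spor.M23 := QuotientGroup.lift D πP (by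
    rintro x ⟨w, hw⟩
    show π x.1.1 = 1
    rw [hw]
    exact hπt w)
  let inl : (GolayPt → ZMod 2) → ↥(fibre π π') := fun v =>
    ⟨(t v, 1), by rw [mem_fibre, hπt, map_one]⟩
  let ιΓ : V → ↥(fibre π π') ⧸ D := fun u => mk (inl (fword u))
  have hι : ∀ v w, inl (v + w) = inl v * inl w := fun v w =>
    Subtype.ext (Prod.ext (htmul v w) (mul_one 1).symm)
  have hmkD : ∀ (a b : ↥(fibre π π')) (w : GolayPt → ZMod 2),
      a.1 * (t w, t' w) = b.1 → mk a = mk b := by
    intro a b w h
    refine QuotientGroup.eq.mpr ⟨w, ?_⟩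
    rw [Subgroup.coe_mul, Subgroup.coe_inv, ← h, inv_mul_cancel_left]
  -- the difference extension
  have MΓ : Module11 cocodeMats πΓ ιΓ :=
    { hadd := fun u v => by
        show mk (inl (fword (u + v))) = _
        rw [fword_add, hι, map_mul]
      hinj := fun u v h => by
        obtain ⟨w, hw⟩ := (QuotientGroup.eq.mp h : (inl (fword u))⁻¹ * inl (fword v) ∈ D)
        rw [Subgroup.coe_mul, Subgroup.coe_inv] at hw
        have h1 : (t (fword u))⁻¹ * t (fword v) = t w := congrArg Prod.fst hw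
        have h2 : t' w = 1 := (congrArg Prod.snd hw).symm.trans (by
          show (1 : E')⁻¹ * 1 = 1
          simp)
        rw [htker' w h2, inv_mul_eq_one] at h1
        exact M.hinj h1
      hker := fun x => by
        constructor
        · intro hx
          obtain ⟨⟨⟨a, a'⟩, ha⟩, rfl⟩ := QuotientGroup.mk'_surjective D x
          have h1 : π a = 1 := hx
          have h2 : π' a' = 1 := by rw [← (show π a = π' a' from ha)]; exact h1
          obtain ⟨u, rfl⟩ := (M.hker a).mp h1
          obtain ⟨v, rfl⟩ := (M'.hker a').mp h2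
          refine ⟨u + v, hmkD _ _ (fword v) (Prod.ext ?_ ?_)⟩
          · show t (fword (u + v)) * t (fword v) = t (fword u)
            rw [fword_add, ← htmul, add_assoc, hxx, add_zero]
          · show 1 * t' (fword v) = t' (fword v)
            rw [one_mul]
        · rintro ⟨u, rfl⟩
          exact hπt _
      hsurj := fun g => by
        obtain ⟨a, ha⟩ := M.hsurj g
        obtain ⟨a', ha'⟩ := M'.hsurj g
        exact ⟨mk ⟨(a, a'), ha.trans ha'.symm⟩, ha⟩
      hconj := fun x i hi hx u => by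
        obtain ⟨⟨⟨a, a'⟩, ha⟩, rfl⟩ := QuotientGroup.mk'_surjective D x
        show (mk ⟨(a, a'), ha⟩)⁻¹ * mk (inl (fword u)) * mk ⟨(a, a'), ha⟩ = mk (inl _)
        rw [← map_inv, ← map_mul, ← map_mul]
        refine congrArg mk (Subtype.ext (Prod.ext ?_ ?_))
        · exact M.hconj a i hi hx u
        · show a'⁻¹ * 1 * a' = 1
          simp }
  let eΓ : ℕ → ↥(fibre π π') ⧸ D := fun i => mk ⟨(e i, e' i), (he i).trans (he' i).symm⟩
  have hev : ∀ w : List ℕ, ∃ h : (eval e w, eval e' w) ∈ fibre π π',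
      eval eΓ w = mk ⟨(eval e w, eval e' w), h⟩ := by
    intro w
    induction w with
    | nil => exact ⟨(fibre π π').one_mem, (map_one mk).symm⟩
    | cons i w ih =>
      obtain ⟨h, hw⟩ := ih
      have hi : (e i, e' i) ∈ fibre π π' := (he i).trans (he' i).symm
      refine ⟨(fibre π π').mul_mem hi h, ?_⟩
      rw [eval_cons, hw, ← map_mul]
      rfl
  have SΓ : Setup cocodeMats extRels (fun b => σ b + σ' b) eΓ ιΓ :=
    { hadd := MΓ.hadd
      hinj := MΓ.hinj
      hconj := fun i hi u => MΓ.hconj (eΓ i) i (cocode_lengths.1 ▸ hi) (he i) u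
      hrel := fun r hr => by
        obtain ⟨hl, hL⟩ := hev (extRels.getD r ([], [])).1
        obtain ⟨hr', hR⟩ := hev (extRels.getD r ([], [])).2
        rw [hL, hR, ← map_mul]
        refine (hmkD _ _ (fword fun c : Fin 11 => σ' (11 * r + (c : ℕ))) ?_).symm
        refine Prod.ext ?_ ?_
        · show eval e _ * t (fword _) * t (fword _) = eval e _
          rw [mul_assoc, ← htmul, show (fun c : Fin 11 => σ (11 * r + (c : ℕ)) + σ' (11 * r + (c : ℕ)))
            = (fun c : Fin 11 => σ (11 * r + (c : ℕ))) + fun c : Fin 11 => σ' (11 * r + (c : ℕ))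
            from rfl, fword_add, add_assoc, hxx, add_zero]
          exact (S.hrel r hr).symm
        · show eval e' _ * 1 * t' (fword _) = eval e' _
          rw [mul_one]
          exact (S'.hrel r hr).symm }
  obtain ⟨v, hv⟩ := SΓ.exists_lifts (NB := 539) (by rw [cocode_lengths.2]) (extra := [cocodeFun])
    (by
      intro m hm
      rw [List.mem_singleton] at hm
      subst hm
      have hadd : mval 539 (fun b => σ b + σ' b) cocodeFun =
          mval 539 σ cocodeFun + mval 539 σ' cocodeFun := by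
        rw [mval, mval, mval, ← Finset.sum_add_distrib]
        refine Finset.sum_congr rfl fun k _ => ?_
        split <;> simp
      rw [hadd, hf, hf']
      decide) cocode_cert
  obtain ⟨H, hH1, hH2⟩ := MΓ.exists_complement (e := fun i => eΓ i * ιΓ (v i))
    (fun i => by rw [map_mul, (MΓ.hker _).mpr ⟨v i, rfl⟩, mul_one]; exact he i) hv
  -- the graph
  set K : Subgroup ↥(fibre π π') := H.comap mk with hK
  have htriv : ∀ x ∈ K, π x.1.1 = 1 → ∃ w, x.1 = (t w, t' w) := by
    intro x hx h1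
    have h2 : mk x ∈ H ⊓ πΓ.ker := ⟨hx, h1⟩
    rw [hH1, Subgroup.mem_bot] at h2
    exact (QuotientGroup.eq_one_iff x).mp h2
  have hrep : ∀ x : ↥(fibre π π'), ∃ u, x * inl (fword u) ∈ K := by
    intro x
    have hx : mk x ∈ H ⊔ πΓ.ker := by rw [hH2]; exact Subgroup.mem_top _
    rw [Subgroup.mem_sup_of_normal_right] at hx
    obtain ⟨h, hh, k, hk, hhk⟩ := hx
    obtain ⟨u, rfl⟩ := (MΓ.hker k).mp hk
    refine ⟨u, ?_⟩
    show mk (x * inl (fword u)) ∈ H
    rw [map_mul, ← hhk, mul_assoc]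
    show h * (ιΓ u * ιΓ u) ∈ H
    rw [← MΓ.hadd, show u + u = 0 from funext fun c => CharTwo.add_self_eq_zero _]
    show h * mk (inl (fword 0)) ∈ H
    rw [show inl (fword (0 : V)) = 1 from Subtype.ext (Prod.ext (by
      show t (fword 0) = 1
      rw [show fword (0 : V) = 0 from funext fun p => by simp [fword, uget], ht0]) rfl), map_one,
      mul_one]
    exact hh
  let f : K →* E := ((MonoidHom.fst E E').comp (fibre π π').subtype).comp K.subtype
  let f' : K →* E' := ((MonoidHom.snd E E').comp (fibre π π').subtype).comp K.subtype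
  have hf1 : Function.Bijective f := by
    constructor
    · rw [injective_iff_map_eq_one]
      rintro ⟨x, hx⟩ h1
      change x.1.1 = 1 at h1
      obtain ⟨w, hw⟩ := htriv x hx (by rw [h1, map_one])
      have : t w = 1 := by rw [← h1, hw]
      exact Subtype.ext (Subtype.ext (Prod.ext h1 (by
        show x.1.2 = 1
        rw [hw]; exact htker w this)))
    · intro a
      obtain ⟨a', ha'⟩ := M'.hsurj (π a)
      obtain ⟨u, hu⟩ := hrep ⟨(a, a'), ha'.symm⟩
      -- multiply by an element of the antidiagonal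
      have hd : (⟨(t (fword u), t' (fword u)), htP _ _⟩ : ↥(fibre π π')) ∈ K := by
        show mk _ ∈ H
        rw [show mk ⟨(t (fword u), t' (fword u)), htP _ _⟩ = 1 from
          (QuotientGroup.eq_one_iff _).mpr ⟨_, rfl⟩]
        exact H.one_mem
      refine ⟨⟨_, K.mul_mem hu hd⟩, ?_⟩
      show a * t (fword u) * t (fword u) = a
      rw [mul_assoc, htt, mul_one]
  have hf2 : Function.Bijective f' := by
    constructor
    · rw [injective_iff_map_eq_one]
      rintro ⟨x, hx⟩ h1
      change x.1.2 = 1 at h1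
      have hpx : π x.1.1 = π' x.1.2 := x.2
      obtain ⟨w, hw⟩ := htriv x hx (by rw [hpx, h1, map_one])
      have : t' w = 1 := by rw [← h1, hw]
      exact Subtype.ext (Subtype.ext (Prod.ext (by
        show x.1.1 = 1
        rw [hw]; exact htker' w this) h1))
    · intro a'
      obtain ⟨a, ha⟩ := M.hsurj (π' a')
      obtain ⟨u, hu⟩ := hrep ⟨(a, a'), ha⟩
      exact ⟨⟨_, hu⟩, mul_one a'⟩
  exact ⟨(MulEquiv.ofBijective f hf1).symm.trans (MulEquiv.ofBijective f' hf2)⟩

end Cfsg.Agent.H13.Ext
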