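import Cfsg.Agent.H13.Ext.Core

/-!
Extensions of `M23` by the code words vanishing at the extra point split.
-/

set_option autoImplicit false

namespace Cfsg.Agent.H13.Ext

open Cfsg.Agent.H12

/-- The coordinate of the word of `u` at the point numbered `n`. -/
def cval (u : V) (n : ℕ) : ZMod 2 :=
  ∑ c : Fin 11, if (codeBasis.getD c 0).testBit n then u c else 0

/-- The code word with given coordinates in the basis. -/
def cword (u : V) : GolayPt → ZMod 2 := fun p => cval u (idx p)

theorem cval_add (u v : V) (n : ℕ) : cval (u + v) n = cval u n + cval v n := by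
  rw [cval, cval, cval, ← Finset.sum_add_distrib]
  refine Finset.sum_congr rfl fun c _ => ?_
  split <;> simp

theorem cword_add (u v : V) : cword (u + v) = cword u + cword v :=
  funext fun _ => cval_add u v _

theorem uget_add (u v : V) (j : ℕ) : uget (u + v) j = uget u j + uget v j := by
  unfold uget
  split <;> simp

theorem lin_add (m : List (List ℕ)) (u v : V) : lin m (u + v) = lin m u + lin m v := by
  funext c
  simp only [lin, Pi.add_apply]
  induction m.getD (c : ℕ) [] with
  | nil => simp
  | cons j row ih =>
    simp only [List.map_cons, List.sum_cons, ih, uget_add]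
    abel

/-- Two additive functionals agreeing on the unit vectors are equal. -/
theorem eq_of_single {f g : V → ZMod 2} (hf : ∀ u v, f (u + v) = f u + f v)
    (hg : ∀ u v, g (u + v) = g u + g v) (h : ∀ j, f (Pi.single j 1) = g (Pi.single j 1))
    (u : V) : f u = g u := by
  have hf0 : f 0 = 0 := by simpa using hf 0 0
  have hg0 : g 0 = 0 := by simpa using hg 0 0
  have e : AddMonoidHom.mk' f hf = AddMonoidHom.mk' g hg := by
    refine AddMonoidHom.functions_ext _ (AddMonoidHom.mk' f hf) (AddMonoidHom.mk' g hg) fun i x => ?_
    rcases (show ∀ x : ZMod 2, x = 0 ∨ x = 1 by decide) x with rfl | rfl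
    · simp [hf0, hg0]
    · exact h i
  exact DFunLike.congr_fun e u

theorem code_facts :
    (∀ c, c < 11 → isCode (codeBasis.getD c 0) = true ∧ codeBasis.getD c 0 < 2 ^ 24 ∧
      (codeBasis.getD c 0).testBit 23 = false ∧ codePivots.getD c 0 < 23 ∧
      ∀ d, d < 11 → (codeBasis.getD c 0).testBit (codePivots.getD d 0) = decide (c = d)) ∧
    ∀ a, a < 64 → ∀ b, b < 64 → (codeWord (64 * a + b)).testBit 23 = false →
      (codePivots.all fun h => !(codeWord (64 * a + b)).testBit h) = true →
        codeWord (64 * a + b) = 0 := by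
  decide +kernel

theorem code_conj : ∀ k, k < extGens.length → ∀ n, n < 24 → ∀ j : Fin 11,
    cval (Pi.single j 1) (app (genP k) n) =
      cval (lin (codeMats.getD k []) (Pi.single j 1)) n := by
  decide +kernel

theorem code_cert : splitOK codeMats extRels ([] ++ codeLoops.flatMap (loopEq codeMats extRels))
    28 codeLift codeSel = true := by
  decide +kernel

theorem code_lengths : codeMats.length = extGens.length ∧ extRels.length = 49 ∧
    codePivots.length = 11 := by
  decide +kernel

theorem cword_pivot (u : V) (c : Fin 11) : cword u (pt (codePivots.getD c 0)) = u c := by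
  have hc := code_facts.1 c c.isLt
  rw [cword, idx_pt (by omega), cval, Finset.sum_eq_single c]
  · rw [(hc.2.2.2.2 c c.isLt)]; simp
  · intro b _ hb
    rw [(code_facts.1 b b.isLt).2.2.2.2 c c.isLt, if_neg]
    simpa [Fin.val_inj] using hb
  · simp

theorem cword_eq_sum (u : V) :
    cword u = ∑ c : Fin 11, u c • word (codeBasis.getD c 0) := by
  funext p
  rw [Finset.sum_apply, cword, cval]
  refine Finset.sum_congr rfl fun c _ => ?_
  simp only [Pi.smul_apply, word, smul_eq_mul]
  split <;> simp

theorem cword_mem (u : V) : cword u ∈ golayCode ∧ cword u none = 0 := by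
  refine ⟨?_, ?_⟩
  · rw [cword_eq_sum]
    refine Submodule.sum_mem _ fun c _ => Submodule.smul_mem _ _ ?_
    exact (word_mem_iff (code_facts.1 c c.isLt).2.1).mpr (code_facts.1 c c.isLt).1
  · rw [show (none : GolayPt) = pt 23 from rfl, cword, idx_pt (by decide), cval]
    exact Finset.sum_eq_zero fun c _ => by rw [(code_facts.1 c c.isLt).2.2.1]; rfl

theorem cword_surj {w : GolayPt → ZMod 2} (hw : w ∈ golayCode) (h0 : w none = 0) :
    cword (fun c => w (pt (codePivots.getD c 0))) = w := by
  set u : V := fun c => w (pt (codePivots.getD c 0)) with hu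
  set d : GolayPt → ZMod 2 := cword u + w with hd
  have hdm : d ∈ golayCode := Submodule.add_mem _ (cword_mem u).1 hw
  set m := mask (support₂ d) with hm
  have hml : m < 2 ^ 24 := mask_lt _
  have hdw : word m = d := word_support d
  rw [← hdw] at hdm
  have hc := (word_mem_iff hml).mp hdm
  rw [isCode_def, beq_iff_eq] at hc
  have hz : ∀ n, n < 24 → d (pt n) = 0 → m.testBit n = false := by
    intro n hn h
    rw [← hdw, word, idx_pt hn] at h
    cases hb : m.testBit n with
    | false => rfl
    | true => rw [hb] at h; exact absurd h (by decide)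
  have h23 : m.testBit 23 = false := hz 23 (by decide) (by
    rw [show pt 23 = none from rfl, hd, Pi.add_apply, (cword_mem u).2, h0, add_zero])
  have hp : (codePivots.all fun h => !m.testBit h) = true := by
    rw [List.all_eq_true]
    intro h hh
    obtain ⟨c, hcl, rfl⟩ := List.getElem_of_mem hh
    rw [code_lengths.2.2] at hcl
    have hc' := (code_facts.1 c hcl).2.2.2.1
    rw [List.getD_eq_getElem?_getD, List.getElem?_eq_getElem (by rw [code_lengths.2.2]; omega),
      Option.getD_some] at hc'
    rw [hz _ (by omega) ?_]
    · rfl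
    · have := cword_pivot u ⟨c, hcl⟩
      simp only [List.getD_eq_getElem?_getD,
        List.getElem?_eq_getElem (by rw [code_lengths.2.2]; omega), Option.getD_some] at this
      rw [hd, Pi.add_apply, this, hu]
      simp only [List.getD_eq_getElem?_getD,
        List.getElem?_eq_getElem (l := codePivots) (i := c) (by rw [code_lengths.2.2]; omega),
        Option.getD_some]
      exact CharTwo.add_self_eq_zero _
  have hm0 : m = 0 := by
    have hlt : m &&& 4095 < 4096 := Nat.lt_succ_of_le Nat.and_le_right
    have := code_facts.2 ((m &&& 4095) / 64) (by omega) ((m &&& 4095) % 64) (by omega)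
    rw [Nat.div_add_mod, hc] at this
    exact this h23 hp
  have : d = 0 := by rw [← hdw, hm0, word_zero]
  funext p
  have := congrFun this p
  rw [hd, Pi.add_apply, Pi.zero_apply] at this
  revert this
  generalize cword u p = a
  generalize w p = b
  revert a b
  decide

theorem cword_inj : Function.Injective cword := fun u v h =>
  funext fun c => by rw [← cword_pivot u c, h, cword_pivot]

theorem cword_conj {k : ℕ} (hk : k < extGens.length) (u : V) :
    cword u ∘ ⇑((gM k : ↥Spor.M23) : Equiv.Perm GolayPt) = cword (lin (codeMats.getD k []) u) := by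
  funext p
  rw [Function.comp_apply, gM_coe hk, cword, cword, permOf_apply (genP_perm hk),
    idx_pt (app_lt (genP_perm hk) (idx_lt p))]
  exact eq_of_single (f := fun u => cval u (app (genP k) (idx p)))
    (g := fun u => cval (lin (codeMats.getD k []) u) (idx p))
    (fun u v => cval_add u v _) (fun u v => by rw [lin_add, cval_add])
    (code_conj k hk _ (idx_lt p)) u

/-- A split extension: the main result. -/
theorem code_extension_split {E : Type*} [Group E] [Finite E] (N : Subgroup E) [hN : N.Normal]
    (φ : E ⧸ N ≃* ↥Spor.M23) (ψ : Additive ↥N →+ (GolayPt → ZMod 2))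
    (hinj : Function.Injective ψ)
    (hrange : ∀ w : GolayPt → ZMod 2, w ∈ Set.range ψ ↔ (w ∈ golayCode ∧ w none = 0))
    (hψ : ∀ (g : E) (n : ↥N),
      ψ (Additive.ofMul ⟨g * n * g⁻¹, hN.conj_mem n n.2 g⟩)
        = ψ (Additive.ofMul n) ∘ ⇑(((φ (QuotientGroup.mk g) : ↥Spor.M23) :
          Equiv.Perm GolayPt)⁻¹)) :
    ∃ H : Subgroup E, H ⊓ N = ⊥ ∧ H ⊔ N = ⊤ := by
  choose n hn using fun u => (hrange _).mpr (cword_mem u)
  let π : E →* ↥Spor.M23 := φ.toMonoidHom.comp (QuotientGroup.mk' N)
  have hπ : ∀ x, π x = φ (QuotientGroup.mk x) := fun _ => rfl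
  have hk : π.ker = N := by
    ext x
    rw [MonoidHom.mem_ker, hπ, map_eq_one_iff φ φ.injective, QuotientGroup.eq_one_iff]
  let ι : V → E := fun u => ((n u).toMul : E)
  have M : Module11 codeMats π ι :=
    { hadd := fun u v => by
        have : n (u + v) = n u + n v := hinj (by rw [map_add, hn, hn, hn, cword_add])
        show ((n (u + v)).toMul : E) = _
        rw [this]
        rfl
      hinj := fun u v h => by
        have : n u = n v := Additive.toMul.injective (Subtype.ext h)
        apply cword_inj
        rw [← hn u, ← hn v, this]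
      hker := fun x => by
        rw [← MonoidHom.mem_ker, hk]
        constructor
        · intro hx
          obtain ⟨hw, h0⟩ := (hrange _).mp ⟨Additive.ofMul ⟨x, hx⟩, rfl⟩
          refine ⟨fun c => ψ (Additive.ofMul ⟨x, hx⟩) (pt (codePivots.getD c 0)), ?_⟩
          have e : n (fun c => ψ (Additive.ofMul ⟨x, hx⟩) (pt (codePivots.getD c 0))) =
              Additive.ofMul ⟨x, hx⟩ := hinj (by rw [hn, cword_surj hw h0])
          exact congrArg (fun a : Additive N => ((a.toMul : N) : E)) e
        · rintro ⟨u, rfl⟩
          exact (n u).toMul.2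
      hsurj := φ.surjective.comp (QuotientGroup.mk'_surjective N)
      hconj := fun x i hi hx u => by
        have h := hψ x⁻¹ (n u).toMul
        rw [show φ (QuotientGroup.mk x⁻¹) = (gM i)⁻¹ by rw [← hπ, map_inv, hx],
          show (((gM i)⁻¹ : ↥Spor.M23) : Equiv.Perm GolayPt)⁻¹ = (gM i : Equiv.Perm GolayPt) by
            rw [Subgroup.coe_inv, inv_inv],
          ofMul_toMul, hn, cword_conj hi, ← hn] at h
        have h2 := congrArg (fun a : Additive N => ((a.toMul : N) : E)) (hinj h)
        simpa [ι] using h2 }
  obtain ⟨e, σ, he, S⟩ := M.exists_setup code_lengths.1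
  obtain ⟨v, hv⟩ := S.exists_lifts (NB := 539) (by rw [code_lengths.2.1]) (extra := [])
    (by simp) code_cert
  obtain ⟨H, h1, h2⟩ := M.exists_complement (e := fun i => e i * ι (v i))
    (fun i => by rw [map_mul, he, (M.hker _).mpr ⟨v i, rfl⟩, mul_one]) hv
  exact ⟨H, hk ▸ h1, hk ▸ h2⟩

end Cfsg.Agent.H13.Ext
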