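import Mathlib

/-!
The order of a group generated by a polycyclic sequence.
-/

set_option autoImplicit false

namespace Cfsg.Agent.H13.Ext

open scoped Pointwise

/-- A polycyclic sequence with exponents `p` generates at most `∏ p` elements. -/
theorem card_closure_pc {G : Type*} [Group G] [Finite G] (e : ℕ → G) (p : ℕ → ℕ) :
    ∀ (m k : ℕ),
      (∀ i, k ≤ i → i < k + m → 0 < p i ∧
        e i ^ p i ∈ Subgroup.closure (e '' Set.Ioo i (k + m)) ∧
        ∀ j, i < j → j < k + m →
          (e i)⁻¹ * e j * e i ∈ Subgroup.closure (e '' Set.Ioo i (k + m))) →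
      Nat.card (Subgroup.closure (e '' Set.Ico k (k + m))) ≤ ∏ i ∈ Finset.Ico k (k + m), p i
  | 0, k, _ => by simp
  | m + 1, k, h => by
    have hb : k + 1 + m = k + (m + 1) := by omega
    obtain ⟨hp, hpow, hconj⟩ := h k le_rfl (by omega)
    have ih := card_closure_pc e p m (k + 1) (fun i h1 h2 => by
      rw [hb]; exact h i (by omega) (by omega))
    rw [hb] at ih
    have hI : Set.Ioo k (k + (m + 1)) = Set.Ico (k + 1) (k + (m + 1)) := by
      ext x; simp only [Set.mem_Ioo, Set.mem_Ico]; omega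
    rw [hI] at hpow hconj
    rw [← Finset.prod_Ico_consecutive p (Nat.le_succ k) (by omega : k + 1 ≤ k + (m + 1)),
      Finset.prod_eq_single k (fun b hb hne => absurd (Finset.mem_Ico.mp hb) (by omega))
        (fun hk => absurd (Finset.mem_Ico.mpr ⟨le_rfl, Nat.lt_succ_self k⟩) hk)]
    set H := Subgroup.closure (e '' Set.Ico (k + 1) (k + (m + 1))) with hH
    -- `e k` normalises `H`
    have hN : ∀ x ∈ H, (e k)⁻¹ * x * e k ∈ H := by
      intro x hx
      induction hx using Subgroup.closure_induction with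
      | mem y hy =>
        obtain ⟨j, hj, rfl⟩ := hy
        exact hconj j (by have := hj.1; omega) hj.2
      | one => simp
      | mul y z _ _ hy hz =>
        rw [show (e k)⁻¹ * (y * z) * e k = ((e k)⁻¹ * y * e k) * ((e k)⁻¹ * z * e k) by group]
        exact H.mul_mem hy hz
      | inv y _ hy =>
        rw [show (e k)⁻¹ * y⁻¹ * e k = ((e k)⁻¹ * y * e k)⁻¹ by group]
        exact H.inv_mem hy
    have hN' : ∀ (a : ℕ) (x : G), x ∈ H → (e k ^ a)⁻¹ * x * e k ^ a ∈ H := by
      intro a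
      induction a with
      | zero => simp
      | succ a iha =>
        intro x hx
        rw [show (e k ^ (a + 1))⁻¹ * x * e k ^ (a + 1) =
          (e k)⁻¹ * ((e k ^ a)⁻¹ * x * e k ^ a) * e k by rw [pow_succ]; group]
        exact hN _ (iha x hx)
    -- the set of products
    let S : Set G := (fun q : Fin (p k) × H => e k ^ (q.1 : ℕ) * (q.2 : G)) '' Set.univ
    have hred : ∀ (a : ℕ) (x : G), x ∈ H → e k ^ a * x ∈ S := by
      intro a x hx
      refine ⟨(⟨a % p k, Nat.mod_lt _ hp⟩,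
        ⟨(e k ^ p k) ^ (a / p k) * x, H.mul_mem (H.pow_mem hpow _) hx⟩), trivial, ?_⟩
      show e k ^ (a % p k) * ((e k ^ p k) ^ (a / p k) * x) = e k ^ a * x
      rw [← mul_assoc, ← pow_mul, ← pow_add, Nat.mod_add_div]
    have hmul : ∀ x ∈ S, ∀ y ∈ S, x * y ∈ S := by
      rintro x ⟨⟨a, u⟩, -, rfl⟩ y ⟨⟨b, v⟩, -, rfl⟩
      show e k ^ (a : ℕ) * (u : G) * (e k ^ (b : ℕ) * (v : G)) ∈ S
      rw [show e k ^ (a : ℕ) * (u : G) * (e k ^ (b : ℕ) * (v : G)) = e k ^ ((a : ℕ) + b) *
        (((e k ^ (b : ℕ))⁻¹ * (u : G) * e k ^ (b : ℕ)) * v) by rw [pow_add]; group]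
      exact hred _ _ (H.mul_mem (hN' _ _ u.2) v.2)
    have hone : (1 : G) ∈ S := by simpa using hred 0 1 H.one_mem
    let M : Submonoid G :=
      { carrier := S, one_mem' := hone, mul_mem' := fun {x y} hx hy => hmul x hx y hy }
    have hle : Subgroup.closure (e '' Set.Ico k (k + (m + 1))) ≤ (subgroupOfIdempotent S
        ⟨1, hone⟩ (Set.Subset.antisymm (by rintro _ ⟨x, hx, y, hy, rfl⟩; exact hmul x hx y hy)
          (fun x hx => ⟨1, hone, x, hx, one_mul x⟩))) := by
      rw [Subgroup.closure_le]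
      rintro _ ⟨j, hj, rfl⟩
      show e j ∈ S
      rcases eq_or_lt_of_le hj.1 with rfl | hlt
      · simpa using hred 1 1 H.one_mem
      · simpa using hred 0 (e j) (Subgroup.subset_closure ⟨j, ⟨hlt, hj.2⟩, rfl⟩)
    have hfin : S.Finite := Set.toFinite S
    calc Nat.card (Subgroup.closure (e '' Set.Ico k (k + (m + 1))))
        ≤ Nat.card S := Nat.card_mono hfin hle
      _ ≤ Nat.card (Set.univ : Set (Fin (p k) × H)) := Nat.card_image_le (Set.toFinite _)
      _ = p k * Nat.card H := by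
          rw [Nat.card_univ, Nat.card_prod, Nat.card_eq_fintype_card, Fintype.card_fin]
      _ ≤ p k * ∏ i ∈ Finset.Ico (k + 1) (k + (m + 1)), p i := Nat.mul_le_mul_left _ ih

end Cfsg.Agent.H13.Ext
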