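import Cfsg.Agent.H13.Ext.LoopCalc
import Cfsg.Agent.H13.Ext.PcBound
import Cfsg.Agent.H13.Ext.Data
import Cfsg.Agent.H13.Groups
import Cfsg.Agent.H19.Gaschutz

/-!
Extensions of `M23` by an eleven-dimensional module: lifts of eleven elements, and a complement
over the whole group from the certificate.
-/

set_option autoImplicit false

namespace Cfsg.Agent.H13.Ext

open Cfsg.Agent.H12
open scoped IsMulCommutative

/-- The packed generators. -/
def genP (i : ℕ) : ℕ := extGens.getD i 0

/-- All generators permute the points, preserve the code and fix the extra point. -/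
theorem genP_ok : ∀ i, i < extGens.length →
    fixesCode (genP i) = true ∧ app (genP i) 23 = 23 := by
  decide +kernel

theorem genP_perm {i : ℕ} (hi : i < extGens.length) : isPerm (genP i) = true := by
  have := (genP_ok i hi).1
  rw [fixesCode, Bool.and_eq_true] at this
  exact this.1

/-- The generators in `M23`. -/
noncomputable def gM (i : ℕ) : ↥Spor.M23 :=
  if h : i < extGens.length then
    ⟨permOf (genP i), Subgroup.mem_inf.mpr ⟨permOf_mem_M24 (genP_ok i h).1, by
      rw [MulAction.mem_stabilizer_iff, Equiv.Perm.smul_def,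
        show (none : GolayPt) = pt 23 from rfl, permOf_fixed_iff (genP_perm h) (by decide)]
      exact (genP_ok i h).2⟩⟩
  else 1

theorem gM_coe {i : ℕ} (h : i < extGens.length) :
    ((gM i : ↥Spor.M23) : Equiv.Perm GolayPt) = permOf (genP i) := by
  rw [gM, dif_pos h]

/-- The image of a point under a word. -/
def wordApp : List ℕ → ℕ → ℕ
  | [], i => i
  | k :: w, i => app (genP k) (wordApp w i)

theorem wordApp_spec : ∀ (w : List ℕ), (∀ k ∈ w, k < extGens.length) → ∀ i, i < 24 →
    wordApp w i < 24 ∧ ((eval gM w : ↥Spor.M23) : Equiv.Perm GolayPt) (pt i) = pt (wordApp w i)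
  | [], _, i, hi => ⟨hi, rfl⟩
  | k :: w, h, i, hi => by
    obtain ⟨h1, h2⟩ := wordApp_spec w (fun x hx => h x (List.mem_cons_of_mem _ hx)) i hi
    have hk := h k (List.mem_cons_self ..)
    refine ⟨app_lt (genP_perm hk) h1, ?_⟩
    rw [eval_cons, Subgroup.coe_mul, Equiv.Perm.mul_apply, h2, gM_coe hk,
      permOf_pt (genP_perm hk) h1]
    rfl

/-- The left side of relation `r`. -/
def relL (r : ℕ) : List ℕ := (extRels.getD r ([], [])).1

/-- The right side of relation `r`. -/
def relR (r : ℕ) : List ℕ := (extRels.getD r ([], [])).2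

theorem rels_ok : ∀ r, r < extRels.length →
    (∀ k ∈ relL r ++ relR r, k < extGens.length) ∧
      ∀ i, i < 24 → wordApp (relL r) i = wordApp (relR r) i := by
  decide +kernel

theorem rel_M23 {r : ℕ} (hr : r < extRels.length) : eval gM (relL r) = eval gM (relR r) := by
  obtain ⟨hk, he⟩ := rels_ok r hr
  apply Subtype.ext
  apply Equiv.ext
  intro p
  rw [← pt_idx p]
  rw [(wordApp_spec _ (fun k hk' => hk k (List.mem_append_left _ hk')) _ (idx_lt p)).2,
    (wordApp_spec _ (fun k hk' => hk k (List.mem_append_right _ hk')) _ (idx_lt p)).2,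
    he _ (idx_lt p)]

/-- An extension of `M23` by the module given by `mats`. -/
structure Module11 {Γ : Type*} [Group Γ] (mats : List (List (List ℕ)))
    (π : Γ →* ↥Spor.M23) (ι : V → Γ) : Prop where
  hadd : ∀ u u', ι (u + u') = ι u * ι u'
  hinj : Function.Injective ι
  hker : ∀ x, π x = 1 ↔ ∃ u, ι u = x
  hsurj : Function.Surjective π
  hconj : ∀ (x : Γ) (i : ℕ), i < extGens.length → π x = gM i →
    ∀ u, x⁻¹ * ι u * x = ι (lin (mats.getD i []) u)

variable {Γ : Type*} [Group Γ] {mats : List (List (List ℕ))} {π : Γ →* ↥Spor.M23} {ι : V → Γ}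

theorem map_eval (π : Γ →* ↥Spor.M23) {e : ℕ → Γ} (he : ∀ i, π (e i) = gM i) (w : List ℕ) :
    π (eval e w) = eval gM w := by
  rw [eval, map_list_prod, List.map_map, eval]
  congr 1
  exact List.map_congr_left fun i _ => he i

theorem Module11.exists_setup (M : Module11 mats π ι) (hm : mats.length = extGens.length) :
    ∃ (e : ℕ → Γ) (σ : ℕ → ZMod 2), (∀ i, π (e i) = gM i) ∧ Setup mats extRels σ e ι := by
  choose e he using fun i => M.hsurj (gM i)
  have hex : ∀ r, r < extRels.length → ∃ u, ι u = (eval e (relR r))⁻¹ * eval e (relL r) := by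
    intro r hr
    apply (M.hker _).mp
    rw [map_mul, map_inv, map_eval π he, map_eval π he, rel_M23 hr, inv_mul_cancel]
  choose u hu using hex
  refine ⟨e, fun b => if h : b / 11 < extRels.length then u _ h ⟨b % 11, Nat.mod_lt _ (by decide)⟩
    else 0, he, M.hadd, M.hinj, fun i hi w => M.hconj (e i) i (hm ▸ hi) (he i) w, ?_⟩
  intro r hr
  have : (fun c : Fin 11 => if h : (11 * r + (c : ℕ)) / 11 < extRels.length then
      u _ h ⟨(11 * r + (c : ℕ)) % 11, Nat.mod_lt _ (by decide)⟩ else 0) = u r hr := by
    funext c
    have h1 : (11 * r + (c : ℕ)) / 11 = r := by omega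
    have h2 : (11 * r + (c : ℕ)) % 11 = (c : ℕ) := by omega
    simp only [h1, h2, hr, dif_pos, Fin.eta]
  rw [this, hu r hr, relR, relL, mul_inv_cancel_left]

/-- The exponents of the polycyclic generators. -/
def pcExp (_ : ℕ) : ℕ := 2

/-- The relations of the polycyclic sequence are among the first `nR`. -/
def pcOK (nR : ℕ) : Bool :=
  (List.range 7).all fun i =>
    (List.range nR).any (fun r => relL r == [i, i] &&
      (relR r).all fun x => decide (i < x ∧ x < 7)) &&
    (List.range 7).all fun j => !decide (i < j) ||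
      (List.range nR).any fun r => relL r == [j, i] &&
        match relR r with
        | [] => false
        | a :: w => a == i && w.all fun x => decide (i < x ∧ x < 7)

theorem pcOK_28 : pcOK 28 = true := by decide +kernel

/-- The 128 normal words. -/
def normalWords : List (List ℕ) := (List.range 7).sublists

theorem normalWords_ok : (normalWords.map fun w => (List.range 24).map (wordApp w)).Nodup ∧
    normalWords.length = 128 ∧ ∀ w ∈ normalWords, ∀ k ∈ w, k < 7 := by
  decide +kernel

theorem extGens_length : extGens.length = 11 := by decide +kernel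

/-- A complement over the Sylow 2-subgroup, hence over the whole group. -/
theorem Module11.exists_complement [Finite Γ] (M : Module11 mats π ι) {e : ℕ → Γ}
    (he : ∀ i, π (e i) = gM i)
    (hrel : ∀ r, r < 28 → eval e (relL r) = eval e (relR r)) :
    ∃ H : Subgroup Γ, H ⊓ π.ker = ⊥ ∧ H ⊔ π.ker = ⊤ := by
  classical
  set A := Subgroup.closure (e '' Set.Ico 0 (0 + 7)) with hA
  have hev : ∀ (K : Subgroup Γ) (w : List ℕ), (∀ x ∈ w, e x ∈ K) → eval e w ∈ K := fun K w h =>
    K.list_prod_mem (by
      intro y hy
      obtain ⟨x, hx, rfl⟩ := List.mem_map.mp hy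
      exact h x hx)
  have hcardA : Nat.card A ≤ 128 := by
    have h := card_closure_pc e pcExp 7 0 (fun i _ hi => by
      have hok := pcOK_28
      rw [pcOK, List.all_eq_true] at hok
      have hi' : i < 7 := by omega
      have h1 := hok i (List.mem_range.mpr hi')
      simp only [Bool.and_eq_true, List.all_eq_true, List.any_eq_true, List.mem_range,
        Bool.or_eq_true, Bool.not_eq_true', decide_eq_false_iff_not, decide_eq_true_eq,
        beq_iff_eq] at h1
      obtain ⟨⟨r, hr, hrL, hrR⟩, hj'⟩ := h1
      refine ⟨by simp [pcExp], ?_, fun j hij hj => ?_⟩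
      · rw [show e i ^ pcExp i = eval e [i, i] by simp [eval, pcExp, pow_two], ← hrL, hrel r hr]
        exact hev _ _ fun x hx => Subgroup.subset_closure ⟨x, ⟨(hrR x hx).1, by
          have := (hrR x hx).2; omega⟩, rfl⟩
      · rcases hj' j (by omega) with h | ⟨r, hr, hrL, hw⟩
        · exact absurd hij h
        · cases hR : relR r with
          | nil => rw [hR] at hw; simp at hw
          | cons a w =>
            rw [hR] at hw
            simp only [Bool.and_eq_true, beq_iff_eq, List.all_eq_true, decide_eq_true_eq] at hw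
            have := hrel r hr
            rw [hrL, hR, hw.1, eval_cons, eval_cons, eval_nil, mul_one, eval_cons] at this
            rw [mul_assoc, this, inv_mul_cancel_left]
            exact hev _ _ fun x hx => Subgroup.subset_closure ⟨x, ⟨(hw.2 x hx).1, by
              have := (hw.2 x hx).2; omega⟩, rfl⟩)
    simpa [pcExp] using h
  have hge : 128 ≤ Nat.card (A.map π) := by
    let f : Fin normalWords.length → A.map π := fun k => ⟨eval gM (normalWords.get k), by
      refine ⟨eval e (normalWords.get k), hev A _ fun x hx => ?_, map_eval π he _⟩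
      exact Subgroup.subset_closure ⟨x, ⟨Nat.zero_le x,
        by simpa using normalWords_ok.2.2 _ (List.get_mem _ _) x hx⟩, rfl⟩⟩
    have hf : Function.Injective f := by
      intro a b hab
      have h7 : ∀ k : Fin normalWords.length, ∀ x ∈ normalWords.get k, x < extGens.length :=
        fun k x hx => by
          rw [extGens_length]
          have := normalWords_ok.2.2 _ (List.get_mem _ _) x hx
          omega
      have hab' : eval gM (normalWords.get a) = eval gM (normalWords.get b) :=
        congrArg Subtype.val hab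
      have h1 : (List.range 24).map (wordApp (normalWords.get a)) =
          (List.range 24).map (wordApp (normalWords.get b)) := by
        refine List.map_congr_left fun i hi => ?_
        have hi' := List.mem_range.mp hi
        obtain ⟨ha1, ha⟩ := wordApp_spec _ (h7 a) i hi'
        obtain ⟨hb1, hb⟩ := wordApp_spec _ (h7 b) i hi'
        rw [hab', hb] at ha
        rw [← idx_pt ha1, ← idx_pt hb1, ha]
      have h2 := normalWords_ok.1
      have h3 := h2.injective_get
      have : (⟨a, by simp⟩ : Fin (normalWords.map fun w => (List.range 24).map (wordApp w)).length)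
          = ⟨b, by simp⟩ := h3 (by simpa using h1)
      exact Fin.ext (Fin.mk.inj_iff.mp this)
    have := Nat.card_le_card_of_injective f hf
    rwa [Nat.card_eq_fintype_card, Fintype.card_fin, normalWords_ok.2.1] at this
  have hle : Nat.card (A.map π) ≤ Nat.card A :=
    Nat.card_le_card_of_surjective (π.subgroupMap A) (π.subgroupMap_surjective A)
  have hinj : Function.Injective (π.subgroupMap A) := by
    refine ((π.subgroupMap_surjective A).bijective_of_nat_card_le ?_).injective
    omega
  have hAK : A ⊓ π.ker = ⊥ := by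
    rw [eq_bot_iff]
    rintro x ⟨hx, hk⟩
    have h0 : π.subgroupMap A ⟨x, hx⟩ = π.subgroupMap A 1 := Subtype.ext (by
      show π x = π 1
      rw [MonoidHom.mem_ker.mp hk, map_one])
    exact congrArg Subtype.val (hinj h0)
  haveI : IsMulCommutative π.ker := ⟨⟨fun a b => Subtype.ext (by
    obtain ⟨u, hu⟩ := (M.hker a.1).mp a.2
    obtain ⟨v, hv⟩ := (M.hker b.1).mp b.2
    show (a : Γ) * b = (b : Γ) * a
    rw [← hu, ← hv, ← M.hadd, ← M.hadd, add_comm])⟩⟩
  have hKcard : Nat.card π.ker = 2 ^ 11 := by
    have hb : Function.Bijective (fun u => (⟨ι u, (M.hker _).mpr ⟨u, rfl⟩⟩ : π.ker)) :=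
      ⟨fun u v h => M.hinj (congrArg Subtype.val h), fun x => by
        obtain ⟨u, hu⟩ := (M.hker x.1).mp x.2
        exact ⟨u, Subtype.ext hu⟩⟩
    rw [← Nat.card_eq_of_bijective _ hb, Nat.card_fun]
    simp
  have hU : π.ker ⊔ A = (A.map π).comap π := by
    rw [Subgroup.comap_map_eq, sup_comm]
  have hidx : (π.ker ⊔ A).index = 79695 := by
    rw [hU, Subgroup.index_comap_of_surjective _ M.hsurj]
    have h1 := (A.map π).index_mul_card
    rw [show Nat.card ↥Spor.M23 = 10200960 by rw [M23_eq, card_g23],
      show Nat.card (A.map π) = 128 by omega] at h1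
    omega
  obtain ⟨H, hH⟩ := H19.gaschutz_exists (K := π.ker) (U := π.ker ⊔ A) le_sup_left
    (by rw [hKcard, hidx]; decide) hAK rfl
  exact ⟨H, by rw [inf_comm]; exact hH.disjoint.eq_bot, by rw [sup_comm]; exact hH.sup_eq_top⟩

end Cfsg.Agent.H13.Ext
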