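import Mathlib

/-!
Word rewriting in an extension by `(ZMod 2)¹¹` with unknown relation vectors, kept as bit masks.
-/

set_option autoImplicit false

namespace Cfsg.Agent.H13.Ext

/-- The coordinate space. -/
abbrev V := Fin 11 → ZMod 2

/-- The value of a mask of unknown bits. -/
def mval (NB : ℕ) (σ : ℕ → ZMod 2) (m : ℕ) : ZMod 2 :=
  ∑ b ∈ Finset.range NB, if m.testBit b then σ b else 0

/-- The value of a symbolic vector. -/
def vval (NB : ℕ) (σ : ℕ → ZMod 2) (v : List ℕ) : V := fun c => mval NB σ (v.getD c 0)

/-- A vector from its coordinates. -/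
def vec (f : ℕ → ℕ) : List ℕ := (List.range 11).map f

/-- The zero vector. -/
def vzero : List ℕ := vec fun _ => 0

/-- Sum of vectors. -/
def vadd (u v : List ℕ) : List ℕ := vec fun c => u.getD c 0 ^^^ v.getD c 0

/-- The unknown vector of a relation. -/
def unk (r : ℕ) : List ℕ := vec fun c => 2 ^ (11 * r + c)

/-- One coordinate of a matrix product. -/
def rowApp (v : List ℕ) : List ℕ → ℕ
  | [] => 0
  | j :: row => (if j < 11 then v.getD j 0 else 0) ^^^ rowApp v row

/-- Matrix times vector, a matrix being the list of supports of its rows. -/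
def appl (m : List (List ℕ)) (v : List ℕ) : List ℕ := vec fun c => rowApp v (m.getD c [])

/-- A coordinate of a vector, by number. -/
def uget (u : V) (j : ℕ) : ZMod 2 := if h : j < 11 then u ⟨j, h⟩ else 0

/-- The linear map of a matrix. -/
def lin (m : List (List ℕ)) (u : V) : V := fun c => ((m.getD c []).map (uget u)).sum

/-- Passing a vector to the right of a word. -/
def tailAct (mats : List (List (List ℕ))) : List ℕ → List ℕ → List ℕ
  | [], v => v
  | i :: t, v => tailAct mats t (appl (mats.getD i []) v)

/-- A move: position, relation, direction. -/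
abbrev Move := ℕ × ℕ × Bool

/-- One move. -/
def moveStep (mats : List (List (List ℕ))) (rels : List (List ℕ × List ℕ)) (w v : List ℕ)
    (mv : Move) : Option (List ℕ × List ℕ) :=
  let p := rels.getD mv.2.1 ([], [])
  let q := if mv.2.2 then (p.2, p.1) else p
  let tail := w.drop (mv.1 + q.1.length)
  if mv.2.1 < rels.length && ((w.drop mv.1).take q.1.length == q.1) &&
      tail.all (fun i => i < mats.length) then
    some (w.take mv.1 ++ q.2 ++ tail, vadd (tailAct mats tail (unk mv.2.1)) v)
  else none

/-- A sequence of moves. -/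
def runMoves (mats : List (List (List ℕ))) (rels : List (List ℕ × List ℕ)) :
    List Move → List ℕ → List ℕ → Option (List ℕ × List ℕ)
  | [], w, v => some (w, v)
  | mv :: mvs, w, v =>
    match moveStep mats rels w v mv with
    | none => none
    | some (w', v') => runMoves mats rels mvs w' v'

/-- The equations of one closed sequence of moves. -/
def loopEq (mats : List (List (List ℕ))) (rels : List (List ℕ × List ℕ))
    (l : List ℕ × List Move) : List ℕ :=
  match runMoves mats rels l.2 l.1 vzero with
  | none => []
  | some (w, v) => if w == l.1 then vec fun c => v.getD c 0 else []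

/-- The sum of the masks selected by the bits of a number. -/
def selX : List ℕ → ℕ → ℕ
  | [], _ => 0
  | e :: es, m => (if Nat.beq (m % 2) 1 then e else 0) ^^^ selX es (m / 2)

/-- The effect of a change of lifts on a word. -/
def cobW (mats : List (List (List ℕ))) (n : ℕ → List ℕ) : List ℕ → List ℕ
  | [] => vzero
  | i :: w => vadd (tailAct mats w (n i)) (cobW mats n w)

theorem vec_getD (f : ℕ → ℕ) {c : ℕ} (hc : c < 11) : (vec f).getD c 0 = f c := by
  rw [vec, List.getD_eq_getElem?_getD, List.getElem?_map, List.getElem?_range hc]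
  rfl

variable {NB : ℕ} {σ : ℕ → ZMod 2}

theorem mval_zero : mval NB σ 0 = 0 := by simp [mval]

theorem mval_xor (a b : ℕ) : mval NB σ (a ^^^ b) = mval NB σ a + mval NB σ b := by
  rw [mval, mval, mval, ← Finset.sum_add_distrib]
  refine Finset.sum_congr rfl fun k _ => ?_
  rw [Nat.testBit_xor]
  cases a.testBit k <;> cases b.testBit k <;> simp [CharTwo.add_self_eq_zero]

theorem mval_two_pow {b : ℕ} (hb : b < NB) : mval NB σ (2 ^ b) = σ b := by
  simp [mval, Nat.testBit_two_pow, Finset.sum_ite_eq, hb]

theorem vval_zero : vval NB σ vzero = 0 := by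
  funext c
  simp only [vval, vzero, vec_getD _ c.isLt, mval_zero, Pi.zero_apply]

theorem vval_vadd (u v : List ℕ) : vval NB σ (vadd u v) = vval NB σ u + vval NB σ v := by
  funext c
  simp only [vval, vadd, vec_getD _ c.isLt, mval_xor, Pi.add_apply]

theorem vval_unk {r : ℕ} (hr : 11 * r + 11 ≤ NB) :
    vval NB σ (unk r) = fun c : Fin 11 => σ (11 * r + (c : ℕ)) := by
  funext c
  simp only [vval, unk, vec_getD _ c.isLt]
  exact mval_two_pow (by omega)

theorem vval_appl (m : List (List ℕ)) (v : List ℕ) :
    vval NB σ (appl m v) = lin m (vval NB σ v) := by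
  funext c
  simp only [vval, appl, vec_getD _ c.isLt, lin]
  induction m.getD (c : ℕ) [] with
  | nil => simp [rowApp, mval_zero]
  | cons j row ih =>
    rw [rowApp, mval_xor, ih, List.map_cons, List.sum_cons]
    congr 1
    by_cases hj : j < 11
    · rw [if_pos hj, uget, dif_pos hj]; rfl
    · rw [if_neg hj, uget, dif_neg hj, mval_zero]

/-- Evaluation of a word. -/
def eval {Γ : Type*} [Group Γ] (e : ℕ → Γ) (w : List ℕ) : Γ := (w.map e).prod

section
variable {Γ : Type*} [Group Γ] (e : ℕ → Γ)

theorem eval_append (v w : List ℕ) : eval e (v ++ w) = eval e v * eval e w := by simp [eval]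

theorem eval_cons (i : ℕ) (w : List ℕ) : eval e (i :: w) = e i * eval e w := by simp [eval]

theorem eval_nil : eval e [] = 1 := rfl

end

/-- The hypotheses on lifts in an extension: `ι` embeds the module, `hconj` gives the action of
the lifts, and the unknown vector of each relation is read off from `σ`. -/
structure Setup {Γ : Type*} [Group Γ] (mats : List (List (List ℕ)))
    (rels : List (List ℕ × List ℕ)) (σ : ℕ → ZMod 2) (e : ℕ → Γ) (ι : V → Γ) : Prop where
  hadd : ∀ u u', ι (u + u') = ι u * ι u'
  hinj : Function.Injective ι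
  hconj : ∀ i, i < mats.length → ∀ u, (e i)⁻¹ * ι u * e i = ι (lin (mats.getD i []) u)
  hrel : ∀ r, r < rels.length →
    eval e (rels.getD r ([], [])).1 =
      eval e (rels.getD r ([], [])).2 * ι fun c : Fin 11 => σ (11 * r + (c : ℕ))

variable {Γ : Type*} [Group Γ] {mats : List (List (List ℕ))} {rels : List (List ℕ × List ℕ)}
  {e : ℕ → Γ} {ι : V → Γ}

theorem Setup.map_zero (S : Setup mats rels σ e ι) : ι 0 = 1 :=
  mul_eq_left.mp ((S.hadd 0 0).symm.trans (by rw [add_zero]))

theorem Setup.eval_tail (S : Setup mats rels σ e ι) : ∀ (t v : List ℕ),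
    (t.all fun i => i < mats.length) = true →
    ι (vval NB σ v) * eval e t = eval e t * ι (vval NB σ (tailAct mats t v))
  | [], v, _ => by simp [tailAct, eval_nil]
  | i :: t, v, h => by
    rw [List.all_cons, Bool.and_eq_true] at h
    rw [tailAct, eval_cons]
    have h2 := S.eval_tail t (appl (mats.getD i []) v) h.2
    rw [mul_assoc (e i), ← h2, vval_appl, ← S.hconj i (by simpa using h.1)]
    group

variable (hNB : 11 * rels.length ≤ NB)
include hNB

theorem Setup.eval_moveStep (S : Setup mats rels σ e ι) {w v w' v' : List ℕ} {mv : Move}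
    (h : moveStep mats rels w v mv = some (w', v')) :
    eval e w * ι (vval NB σ v) = eval e w' * ι (vval NB σ v') := by
  obtain ⟨k, r, d⟩ := mv
  simp only [moveStep] at h
  generalize hq : (if d = true then ((rels.getD r ([], [])).2, (rels.getD r ([], [])).1)
      else rels.getD r ([], [])) = q at h
  split at h
  case isFalse => exact absurd h (by simp)
  rename_i hc
  rw [Bool.and_eq_true, Bool.and_eq_true, decide_eq_true_eq, beq_iff_eq] at hc
  obtain ⟨⟨hr, hL⟩, htail⟩ := hc
  rw [Option.some.injEq, Prod.mk.injEq] at h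
  obtain ⟨rfl, rfl⟩ := h
  have hu : vval NB σ (unk r) = fun c : Fin 11 => σ (11 * r + (c : ℕ)) := vval_unk (r := r) (by omega)
  have key : eval e q.1 = eval e q.2 * ι (vval NB σ (unk r)) := by
    rw [hu, ← hq]
    cases d
    · exact S.hrel r hr
    · show eval e (rels.getD r ([], [])).2 = eval e (rels.getD r ([], [])).1 * _
      rw [S.hrel r hr, mul_assoc, ← S.hadd, show (fun c : Fin 11 => σ (11 * r + c)) +
        (fun c : Fin 11 => σ (11 * r + c)) = 0 from funext fun c => CharTwo.add_self_eq_zero _,
        S.map_zero, mul_one]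
  have hw : w = w.take k ++ q.1 ++ w.drop (k + q.1.length) := by
    conv_lhs => rw [← List.take_append_drop k w, ← List.take_append_drop q.1.length (w.drop k),
      hL, List.drop_drop]
    rw [List.append_assoc]
  conv_lhs => rw [hw]
  rw [vval_vadd, S.hadd, eval_append, eval_append, eval_append, eval_append, key]
  simp only [mul_assoc]
  rw [← mul_assoc (ι (vval NB σ (unk r))), S.eval_tail _ _ htail]
  simp only [mul_assoc]

theorem Setup.eval_runMoves (S : Setup mats rels σ e ι) : ∀ (mvs : List Move) (w v w' v' : List ℕ),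
    runMoves mats rels mvs w v = some (w', v') →
    eval e w * ι (vval NB σ v) = eval e w' * ι (vval NB σ v')
  | [], w, v, w', v', h => by
    simp only [runMoves, Option.some.injEq, Prod.mk.injEq] at h
    rw [h.1, h.2]
  | mv :: mvs, w, v, w', v', h => by
    rw [runMoves] at h
    cases hs : moveStep mats rels w v mv with
    | none => rw [hs] at h; exact absurd h (by simp)
    | some p =>
      obtain ⟨w1, v1⟩ := p
      rw [hs] at h
      rw [S.eval_moveStep hNB hs]
      exact S.eval_runMoves mvs w1 v1 w' v' h

theorem Setup.loopEq_zero (S : Setup mats rels σ e ι) {l : List ℕ × List Move} {m : ℕ}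
    (hm : m ∈ loopEq mats rels l) : mval NB σ m = 0 := by
  rw [loopEq] at hm
  cases hr : runMoves mats rels l.2 l.1 vzero with
  | none => rw [hr] at hm; simp at hm
  | some p =>
    obtain ⟨w, v⟩ := p
    simp only [hr] at hm
    split at hm
    case isFalse => simp at hm
    rename_i hw
    obtain rfl : w = l.1 := beq_iff_eq.mp hw
    have h := S.eval_runMoves hNB _ _ _ _ _ hr
    rw [mul_right_inj, vval_zero] at h
    have h0 := S.hinj h
    rw [vec, List.mem_map] at hm
    obtain ⟨c, hc, rfl⟩ := hm
    exact (congrFun h0 ⟨c, List.mem_range.mp hc⟩).symm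

omit hNB in
theorem mval_selX : ∀ (es : List ℕ) (m : ℕ), (∀ x ∈ es, mval NB σ x = 0) →
    mval NB σ (selX es m) = 0
  | [], m, _ => by simp [selX, mval_zero]
  | x :: es, m, h => by
    rw [selX, mval_xor, mval_selX es _ fun y hy => h y (List.mem_cons_of_mem _ hy), add_zero]
    split
    · exact h x (List.mem_cons_self ..)
    · exact mval_zero

omit hNB in
theorem Setup.eval_cobW (S : Setup mats rels σ e ι) (n : ℕ → List ℕ) : ∀ w : List ℕ,
    (w.all fun i => i < mats.length) = true →
    eval (fun i => e i * ι (vval NB σ (n i))) w = eval e w * ι (vval NB σ (cobW mats n w))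
  | [], _ => by simp [cobW, eval_nil, vval_zero, S.map_zero]
  | i :: w, h => by
    rw [List.all_cons, Bool.and_eq_true] at h
    rw [eval_cons, eval_cons, S.eval_cobW n w h.2, cobW, vval_vadd, S.hadd, mul_assoc (e i),
      ← mul_assoc (ι _), S.eval_tail w (n i) h.2]
    simp only [mul_assoc]

/-- The new lifts. -/
def liftVec (L : List ℕ) (i : ℕ) : List ℕ := vec fun c => L.getD (11 * i + c) 0

/-- The certificate that the lifts can be changed so that the first relations hold exactly. -/
def splitOK (mats : List (List (List ℕ))) (rels : List (List ℕ × List ℕ))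
    (eqs : List ℕ) (nR : ℕ) (L : List ℕ) (sels : List ℕ) : Bool :=
  nR ≤ rels.length &&
  (List.range nR).all fun r =>
    let p := rels.getD r ([], [])
    let d := vadd (unk r) (vadd (cobW mats (liftVec L) p.1) (cobW mats (liftVec L) p.2))
    (p.1 ++ p.2).all (fun i => i < mats.length) &&
      (List.range 11).all fun c => Nat.beq (d.getD c 0) (selX eqs (sels.getD (11 * r + c) 0))

theorem Setup.exists_lifts (S : Setup mats rels σ e ι) {loops : List (List ℕ × List Move)}
    {extra : List ℕ} (hextra : ∀ m ∈ extra, mval NB σ m = 0) {nR : ℕ} {L sels : List ℕ}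
    (h : splitOK mats rels (extra ++ loops.flatMap (loopEq mats rels)) nR L sels = true) :
    ∃ n : ℕ → V, ∀ r, r < nR →
      eval (fun i => e i * ι (n i)) (rels.getD r ([], [])).1 =
        eval (fun i => e i * ι (n i)) (rels.getD r ([], [])).2 := by
  refine ⟨fun i => vval NB σ (liftVec L i), fun r hr => ?_⟩
  rw [splitOK, Bool.and_eq_true, decide_eq_true_eq, List.all_eq_true] at h
  obtain ⟨hn, h⟩ := h
  have hc := h r (List.mem_range.mpr hr)
  simp only [Bool.and_eq_true, List.all_append, List.all_eq_true (l := List.range 11),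
    List.mem_range] at hc
  obtain ⟨⟨h1, h2⟩, hc⟩ := hc
  set p := rels.getD r ([], []) with hp
  have hes : ∀ x ∈ extra ++ loops.flatMap (loopEq mats rels), mval NB σ x = 0 := by
    intro x hx
    rcases List.mem_append.mp hx with hx | hx
    · exact hextra x hx
    · obtain ⟨l, -, hl⟩ := List.mem_flatMap.mp hx
      exact S.loopEq_zero hNB hl
  have hz : vval NB σ (unk r) + (vval NB σ (cobW mats (liftVec L) p.1) +
      vval NB σ (cobW mats (liftVec L) p.2)) = 0 := by
    rw [← vval_vadd, ← vval_vadd]
    funext c
    rw [vval, Nat.eq_of_beq_eq_true (hc c c.isLt), mval_selX _ _ hes, Pi.zero_apply]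
  rw [S.eval_cobW _ _ h1, S.eval_cobW _ _ h2, hp, S.hrel r (lt_of_lt_of_le hr hn),
    ← vval_unk (NB := NB) (by omega), mul_assoc, ← S.hadd, ← hp]
  congr 2
  generalize vval NB σ (unk r) = u at hz
  generalize vval NB σ (cobW mats (liftVec L) p.1) = a at hz
  generalize vval NB σ (cobW mats (liftVec L) p.2) = b at hz
  funext k
  have := congrFun hz k
  simp only [Pi.add_apply, Pi.zero_apply] at this ⊢
  revert this
  generalize u k = x
  generalize a k = y
  generalize b k = z
  revert x y z
  decide

end Cfsg.Agent.H13.Ext
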