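import Mathlib.Data.Nat.Notation

/-!
Data of a factor set on the code words vanishing at the extra point (quadratic and cubic parts),
its polar forms for seven elements, and the relation vectors that witness non-splitting.
-/

set_option autoImplicit false

namespace Cfsg.Agent.H13.Ext

def parkerA : List ℕ := [
  0, 0, 2, 0, 0, 8, 0x10, 0, 0, 1, 0x100]
def parkerT : List ℕ := [
  0, 0x684, 0x21a, 0x324, 0x244, 0x2c8, 0x630, 0x222, 0x608, 0x5fe, 0x342,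
  0x684, 0, 0x7f9, 0x434, 0xcc, 0x20c, 0x314, 0x15, 0x444, 0x65, 0x10d,
  0x21a, 0x7f9, 0, 0xa3, 0x443, 0x14a, 0x32, 0x40a, 0x622, 0x103, 0x192,
  0x324, 0x434, 0xa3, 0, 0x262, 0x7d7, 0x1b0, 0x64, 0x461, 0x31, 0x122,
  0x244, 0xcc, 0x443, 0x262, 0, 0x448, 0x7af, 0x142, 0x6c0, 0x149, 0x164,
  0x2c8, 0x20c, 0x14a, 0x7d7, 0x448, 0, 0x1d, 0x109, 0x48c, 0x40b, 0x318,
  0x630, 0x314, 0x32, 0x1b0, 0x7af, 0x1d, 0, 0x218, 0x41a, 0x93, 0x111,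
  0x222, 0x15, 0x40a, 0x64, 0x142, 0x109, 0x218, 0, 0x430, 0x441, 0x304,
  0x608, 0x444, 0x622, 0x461, 0x6c0, 0x48c, 0x41a, 0x430, 0, 0x415, 0x2ff,
  0x5fe, 0x65, 0x103, 0x31, 0x149, 0x40b, 0x93, 0x441, 0x415, 0, 0x1a1,
  0x342, 0x10d, 0x192, 0x122, 0x164, 0x318, 0x111, 0x304, 0x2ff, 0x1a1, 0]
def parkerF : List ℕ := [
  0x6c4, 0xcc, 0x243, 0x442, 0, 0x4c0, 0x72f, 0x123, 0x6c0, 0x145, 0x169,
  0, 0, 8, 0x394, 0x1c8, 0x1c0, 0x3b0, 0x578, 0x4f8, 0x48, 0x180,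
  0x194, 0, 0x5a1, 0, 0x201, 0x544, 0x6a0, 0x445, 0x425, 0x50, 0x1e4,
  0x90, 0x1c8, 0x50, 0x7d2, 0x12d, 0x250, 0x1ae, 0x34b, 0x6da, 0x1a8, 0x108,
  0x3c2, 0x8d, 0x202, 0x482, 0, 0x1c0, 0x21, 0x32b, 0x6a1, 0x185, 0x108,
  0x620, 0, 0x680, 0, 0, 0x701, 0x680, 0x644, 0x620, 0x1e5, 0x1e5,
  0x6b0, 0x484, 0x452, 0x380, 0x325, 0x791, 0x184, 0x56b, 0x4f8, 0x439, 0x3a7]
def parkerImg : List ℕ := [
  0x122, 0x110, 0x202, 0x412, 0x10, 0x103, 0x152, 0x192, 0x12, 0x114, 0x108,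
  1, 2, 0x421, 0x43, 0x602, 0x405, 0xb, 0x503, 0x483, 0x412, 0x400,
  0xb, 2, 0x488, 8, 0xa0, 0x9a, 0x4a, 0x8a, 0x288, 0x182, 0x86,
  0x600, 0x405, 0x202, 0x301, 0x21, 0x610, 0x641, 0x681, 0x209, 0x401, 0x400,
  0x424, 0x610, 4, 0x114, 0x10, 0x405, 0x494, 0x454, 0x1c, 0x412, 0x400,
  0x4a, 2, 0x118, 8, 0x10, 0x9a, 0xb, 0x3a, 0x1c, 0x412, 0x212,
  0x4a, 0x49, 0x2c2, 0x43, 0xe1, 0x9a, 0xb, 0xcb, 0x483, 0x8d, 0x1c8]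
def parkerUnitInv : List ℕ := [
  0x24f, 0x49f, 0x371, 0x6e3, 0x789, 0x55c, 0xf6, 0x1ed, 0x3da, 0x7b4, 0x527]
def parkerVecs : List (ℕ × ℕ) := [
  (1, 1148), (2, 388), (4, 0), (5, 567), (9, 567), (15, 1148)]
def parkerSupp : List (ℕ × ℕ) := [
  (1, 10), (2, 7), (4, 0), (4, 1), (4, 3), (4, 6), (5, 0), (5, 3), (5, 4), (9, 6), (15, 10)]
def parkerImg23 : List ℕ := [
  0x20d, 0x294, 0x229, 0x391, 0x29c, 0x8d, 0x19, 0x615, 0x55, 0x90, 0x28a,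
  0x20, 0x438, 0x14, 0x428, 0x48c, 0x416, 0x78, 0xc, 0x3d, 0x61c, 0x524]

end Cfsg.Agent.H13.Ext
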