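import Cfsg.Agent.H13.Ext.ParkerForm
import Cfsg.Agent.H13.Ext.CocodeModule

/-!
The extension of `M23` by the dual code module made of the pairs of an element and a quadratic
function for its polar form, and the proof that it does not split.
-/

set_option autoImplicit false

namespace Cfsg.Agent.H13.Ext

open Cfsg.Agent.H12

/-- An element of `M23` with a quadratic function for its polar form. -/
@[ext]
structure PE where
  /-- The element of `M23`. -/
  g : ↥Spor.M23
  /-- The quadratic function. -/
  q : V → ZMod 2
  /-- The polar form. -/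
  hq : ∀ u v, q (u + v) + q u + q v = dform g u v

namespace PE

theorem z2_two (x : ZMod 2) : x + x = 0 := CharTwo.add_self_eq_zero x

instance : Mul PE := ⟨fun a b => ⟨a.g * b.g, fun u => a.q u + b.q (RM a.g u), fun u v => by
  rw [dform_mul, ← a.hq u v, ← b.hq (RM a.g u) (RM a.g v), RM_add]
  abel⟩⟩

instance : One PE := ⟨⟨1, fun _ => 0, fun u v => by simp [dform, RM_one, z2_two]⟩⟩

instance : Inv PE := ⟨fun a => ⟨a.g⁻¹, fun u => a.q (RM a.g⁻¹ u), fun u v => by
  have h := dform_mul a.g⁻¹ a.g u v
  rw [inv_mul_cancel] at h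
  have h1 : dform 1 u v = 0 := by simp [dform, RM_one, z2_two]
  rw [RM_add, a.hq]
  rw [h1] at h
  exact z2_eq_of_add h.symm⟩⟩

theorem mul_g (a b : PE) : (a * b).g = a.g * b.g := rfl

theorem mul_q (a b : PE) (u : V) : (a * b).q u = a.q u + b.q (RM a.g u) := rfl

theorem one_g : (1 : PE).g = 1 := rfl

theorem one_q (u : V) : (1 : PE).q u = 0 := rfl

instance : Group PE where
  mul_assoc a b c := PE.ext (mul_assoc a.g b.g c.g) (funext fun u => by
    simp only [mul_q, mul_g, RM_mul, add_assoc])
  one_mul a := PE.ext (one_mul a.g) (funext fun u => by rw [mul_q, one_q, one_g, RM_one, zero_add])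
  mul_one a := PE.ext (mul_one a.g) (funext fun u => by rw [mul_q, one_q, add_zero])
  inv_mul_cancel a := PE.ext (inv_mul_cancel a.g) (funext fun u => z2_two (a.q (RM a.g⁻¹ u)))

instance : Finite PE :=
  haveI : Finite ↥Spor.M23 := Nat.finite_of_card_ne_zero (by rw [M23_eq, card_g23]; decide)
  Finite.of_injective (fun a : PE => (a.g, a.q)) fun a b h =>
    PE.ext (congrArg Prod.fst h) (congrArg Prod.snd h)

/-- The projection. -/
def proj : PE →* ↥Spor.M23 where
  toFun a := a.g
  map_one' := rfl
  map_mul' _ _ := rfl

theorem proj_surjective : Function.Surjective proj := fun g => ⟨⟨g, qOf g, qOf_polar g⟩, rfl⟩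

/-- The pairing of a word with the code words. -/
def pairing (w : GolayPt → ZMod 2) (u : V) : ZMod 2 := ∑ p : GolayPt, w p * cword u p

theorem pairing_add_right (w : GolayPt → ZMod 2) (u v : V) :
    pairing w (u + v) = pairing w u + pairing w v := by
  simp only [pairing, cword_add, Pi.add_apply, mul_add, Finset.sum_add_distrib]

theorem pairing_add_left (v w : GolayPt → ZMod 2) (u : V) :
    pairing (v + w) u = pairing v u + pairing w u := by
  simp only [pairing, Pi.add_apply, add_mul, Finset.sum_add_distrib]

/-- The element of the kernel given by a word. -/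
def ofWord (w : GolayPt → ZMod 2) : PE := ⟨1, pairing w, fun u v => by
  have h1 : dform 1 u v = 0 := by simp [dform, RM_one, z2_two]
  rw [h1, pairing_add_right]
  generalize pairing w u = a
  generalize pairing w v = b
  revert a b
  decide⟩

theorem ofWord_mem (w : GolayPt → ZMod 2) : ofWord w ∈ proj.ker := rfl

theorem ofWord_add (v w : GolayPt → ZMod 2) : ofWord (v + w) = ofWord v * ofWord w :=
  PE.ext (one_mul (1 : ↥Spor.M23)).symm (funext fun u => by
    rw [mul_q]
    show pairing (v + w) u = pairing v u + pairing w (RM 1 u)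
    rw [RM_one, pairing_add_left])

theorem ofWord_zero : ofWord 0 = 1 :=
  PE.ext rfl (funext fun u => by simp [ofWord, pairing, one_q])

/-- The kernel map. -/
def theta : (GolayPt → ZMod 2) →+ Additive ↥(proj.ker) where
  toFun w := Additive.ofMul ⟨ofWord w, ofWord_mem w⟩
  map_zero' := congrArg Additive.ofMul (Subtype.ext ofWord_zero)
  map_add' v w := congrArg Additive.ofMul (Subtype.ext (ofWord_add v w))

theorem theta_surjective : Function.Surjective theta := by
  intro x
  obtain ⟨⟨⟨g, q, hq⟩, hx⟩, rfl⟩ := Additive.ofMul.surjective x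
  obtain rfl : g = 1 := hx
  have hadd : ∀ u v, q (u + v) = q u + q v := by
    intro u v
    have h := hq u v
    rw [show dform 1 u v = 0 by simp [dform, RM_one, z2_two]] at h
    revert h
    generalize q (u + v) = a
    generalize q u = b
    generalize q v = c
    revert a b c
    decide
  refine ⟨∑ j : Fin 11, Pi.single (pt (codePivots.getD (j : ℕ) 0)) (q (Pi.single j 1)),
    congrArg Additive.ofMul (Subtype.ext (PE.ext rfl (funext fun u => ?_)))⟩
  have hw : pairing (∑ j : Fin 11, Pi.single (pt (codePivots.getD (j : ℕ) 0)) (q (Pi.single j 1))) u =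
      ∑ j : Fin 11, q (Pi.single j 1) * u j := by
    simp only [pairing, Finset.sum_apply, Finset.sum_mul]
    rw [Finset.sum_comm]
    refine Finset.sum_congr rfl fun j _ => ?_
    rw [Finset.sum_eq_single (pt (codePivots.getD (j : ℕ) 0)), Pi.single_eq_same, cword_pivot]
    · intro p _ hp; rw [Pi.single_eq_of_ne hp, zero_mul]
    · simp
  show pairing _ u = q u
  rw [hw]
  refine (eq_of_single (f := fun u => q u) (g := fun u => ∑ j : Fin 11, q (Pi.single j 1) * u j)
    hadd (fun x y => by simp only [Pi.add_apply, mul_add, Finset.sum_add_distrib]) (fun i => ?_) u).symm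
  rw [Finset.sum_eq_single i]
  · simp
  · intro b _ hb; simp [Pi.single_eq_of_ne hb]
  · simp

attribute [local irreducible] pairing qform dform

theorem pairing_facts : (∀ i : Fin 11, ∀ m ∈ genMasks,
      ((pop (m &&& codeBasis.getD (i : ℕ) 0) : ℕ) : ZMod 2) = 0) ∧
    ∀ c n : Fin 11, cval (bitsW (parkerUnitInv.getD (c : ℕ) 0)) n = if n = c then 1 else 0 := by
  decide +kernel

theorem pairing_gen {m : ℕ} (hm : m ∈ genMasks) (u : V) : pairing (word m) u = 0 := by
  refine eq_of_single (f := pairing (word m)) (g := fun _ => 0) (pairing_add_right _)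
    (fun _ _ => (add_zero (0 : ZMod 2)).symm) (fun i => ?_) u
  rw [← pairing_facts.1 i m hm, ← sum_word]
  · rw [pairing]
    refine Finset.sum_congr rfl fun p _ => ?_
    simp only [cword, cval_single, bit2, word, Nat.testBit_and]
    cases m.testBit (idx p) <;> cases (codeBasis.getD (i : ℕ) 0).testBit (idx p) <;> simp
  · exact Nat.lt_of_le_of_lt Nat.and_le_right (code_facts.1 i i.isLt).2.1

theorem pairing_code {w : GolayPt → ZMod 2} (hw : w ∈ golayCode) (u : V) : pairing w u = 0 := by
  induction hw using Submodule.span_induction with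
  | mem v hv =>
    have hmem : ∀ j, j < 24 → genMasks.getD j 0 ∈ genMasks := fun j hj => by
      rw [List.getD_eq_getElem?_getD,
        List.getElem?_eq_getElem (by rw [show genMasks.length = 24 from rfl]; omega)]
      exact List.getElem_mem _
    obtain ⟨t, rfl⟩ | rfl := hv
    · have hlt : t.val < 23 := ZMod.val_lt t
      have e : word (genMasks.getD t.val 0) = qrWord t := by
        funext p
        rw [word, ← pt_idx p, idx_pt (idx_lt p), genMasks_spec.1 _ hlt _ (idx_lt p),
          ZMod.natCast_zmod_val]
        rcases (show ∀ z : ZMod 2, z = 0 ∨ z = 1 by decide)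
          (qrWord t (pt (idx p))) with hw | hw <;> simp [hw]
      rw [← e]
      exact pairing_gen (hmem _ (by omega)) u
    · have e : word (genMasks.getD 23 0) = (1 : GolayPt → ZMod 2) := by
        funext p
        have : allMask.testBit (idx p) = true :=
          mem_fin.mp (by rw [fin_allMask]; exact Finset.mem_univ p)
        rw [genMasks_spec.2]
        simp [word, this]
      rw [← e]
      exact pairing_gen (hmem 23 (by decide)) u
  | zero => simp [pairing]
  | add a b _ _ ha hb => rw [pairing_add_left, ha, hb, add_zero]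
  | smul a v _ hv =>
    rcases (show ∀ z : ZMod 2, z = 0 ∨ z = 1 by decide) a with rfl | rfl
    · simp [pairing]
    · rwa [one_smul]

theorem pairing_inKer {w : GolayPt → ZMod 2} (hw : InKer w) (u : V) : pairing w u = 0 := by
  rcases hw with h | h
  · exact pairing_code h u
  · have h2 := pairing_code h u
    have hn : pairing (Pi.single none 1) u = 0 := by
      rw [pairing, Finset.sum_eq_single (none : GolayPt)]
      · rw [(cword_mem u).2, mul_zero]
      · intro p _ hp; rw [Pi.single_eq_of_ne hp, zero_mul]
      · simp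
    rwa [pairing_add_left, hn, add_zero] at h2

theorem exists_inKer_add (w : GolayPt → ZMod 2) : ∃ v, InKer (w + fword v) := by
  rw [← Finset.univ_sum_single w]
  refine Finset.sum_induction _ (fun x => ∃ v, InKer (x + fword v)) ?_ ?_ ?_
  · rintro a b ⟨u, hu⟩ ⟨v, hv⟩
    refine ⟨u + v, ?_⟩
    rw [fword_add, add_add_add_comm]
    exact hu.add hv
  · exact ⟨0, Or.inl (by
      rw [zero_add, show fword (0 : V) = 0 from funext fun p => by simp [fword, uget]]
      exact Submodule.zero_mem _)⟩
  · intro p _
    rcases (show ∀ x : ZMod 2, x = 0 ∨ x = 1 by decide) (w p) with h | h <;> rw [h]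
    · exact ⟨0, Or.inl (by
        rw [Pi.single_zero, zero_add,
          show fword (0 : V) = 0 from funext fun p => by simp [fword, uget]]
        exact Submodule.zero_mem _)⟩
    · exact exists_fword_single p

theorem theta_ker (w : GolayPt → ZMod 2) : theta w = 0 ↔ InKer w := by
  have hiff : theta w = 0 ↔ ∀ u, pairing w u = 0 := by
    constructor
    · intro h u
      have h1 : ofWord w = 1 := congrArg (fun a : Additive ↥(proj.ker) => (a.toMul : PE)) h
      have h2 := congrArg (fun a : PE => a.q u) h1
      exact h2
    · intro h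
      have h1 : ofWord w = 1 := PE.ext rfl (funext h)
      exact congrArg Additive.ofMul (Subtype.ext h1)
  rw [hiff]
  refine ⟨fun h => ?_, pairing_inKer⟩
  obtain ⟨v, hv⟩ := exists_inKer_add w
  have hv0 : v = 0 := by
    funext c
    have h1 := pairing_inKer hv (bitsW (parkerUnitInv.getD (c : ℕ) 0))
    rw [pairing_add_left, h, zero_add, pairing, Finset.sum_eq_single (pt (c : ℕ))] at h1
    · rw [fword, cword, idx_pt (by omega), uget, dif_pos c.isLt, pairing_facts.2 c c, if_pos rfl,
        mul_one] at h1
      exact h1
    · intro p _ hp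
      rw [fword]
      by_cases hlt : idx p < 11
      · rw [cword, pairing_facts.2 c ⟨idx p, hlt⟩, if_neg, mul_zero]
        intro e
        exact hp (by rw [← pt_idx p, ← e])
      · rw [uget, dif_neg hlt, zero_mul]
    · simp
  rw [hv0, show fword (0 : V) = 0 from funext fun p => by simp [fword, uget], add_zero] at hv
  exact hv

/-- The isomorphism of the quotient with `M23`. -/
noncomputable def quotEquiv : PE ⧸ proj.ker ≃* ↥Spor.M23 :=
  QuotientGroup.quotientKerEquivOfSurjective proj proj_surjective

theorem quotEquiv_mk (x : PE) : quotEquiv (QuotientGroup.mk x) = x.g := rfl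

theorem theta_conj (x : PE) (w : GolayPt → ZMod 2) :
    ((theta (w ∘ ⇑(((quotEquiv (QuotientGroup.mk x) : ↥Spor.M23) :
      Equiv.Perm GolayPt)⁻¹))).toMul : PE) = x * ((theta w).toMul : PE) * x⁻¹ := by
  rw [quotEquiv_mk]
  apply PE.ext
  · show (1 : ↥Spor.M23) = x.g * 1 * x.g⁻¹
    rw [mul_one, mul_inv_cancel]
  funext u
  show pairing (w ∘ ⇑((x.g : Equiv.Perm GolayPt)⁻¹)) u =
    x.q u + pairing w (RM x.g u) + x.q (RM x.g⁻¹ (RM (x.g * 1) u))
  rw [mul_one, ← RM_mul, mul_inv_cancel, RM_one, add_comm (x.q u), add_assoc, z2_two, add_zero]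
  simp only [pairing, cword_RM, Function.comp_apply]
  rw [← Equiv.sum_comp (x.g : Equiv.Perm GolayPt)]
  refine Finset.sum_congr rfl fun p _ => ?_
  simp

/-- The polar form table of the first seven elements. -/
def fTab (k : ℕ) (i j : Fin 11) : ZMod 2 := bit2 (parkerF.getD (11 * k + (i : ℕ)) 0) j

theorem fTab_facts : ∀ k, k < 7 →
    (∀ i c : Fin 11, cval (Pi.single i 1) (app (genP k) (codePivots.getD (c : ℕ) 0)) =
      bit2 (parkerImg.getD (11 * k + (i : ℕ)) 0) c) ∧
    ∀ i j : Fin 11, dTab parkerImg (11 * k) i j = fTab k i j := by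
  decide +kernel

/-- The quadratic function of a word in the first seven elements. -/
def qWord : List ℕ → V → ZMod 2
  | [], _ => 0
  | k :: w, u => qform (fTab k) u + qWord w (lin (codeMats.getD k []) u)

/-- Passing a coordinate vector through a word. -/
def tailR : List ℕ → V → V
  | [], u => u
  | k :: w, u => tailR w (lin (codeMats.getD k []) u)

theorem RM_eval : ∀ (w : List ℕ), (∀ k ∈ w, k < 7) → ∀ u, RM (eval gM w) u = tailR w u
  | [], _, u => RM_one u
  | k :: w, h, u => by
    have hk := h k (List.mem_cons_self ..)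
    rw [eval_cons, RM_mul, RM_gM (by rw [extGens_length]; omega),
      RM_eval w (fun x hx => h x (List.mem_cons_of_mem _ hx)), tailR]

/-- The chosen lifts. -/
noncomputable def lift7 (i : ℕ) : PE := ⟨gM i, qOf (gM i), qOf_polar (gM i)⟩

theorem eval_lift7_q : ∀ (w : List ℕ), (∀ k ∈ w, k < 7) → ∀ u, (eval lift7 w).q u = qWord w u
  | [], _, u => rfl
  | k :: w, h, u => by
    have hk := h k (List.mem_cons_self ..)
    have hk' : k < extGens.length := by rw [extGens_length]; omega
    rw [eval_cons, mul_q, eval_lift7_q w (fun x hx => h x (List.mem_cons_of_mem _ hx)), qWord,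
      show (lift7 k).g = gM k from rfl, RM_gM hk']
    congr 1
    show qform (dmat (gM k)) u = qform (fTab k) u
    obtain ⟨h1, h2⟩ := fTab_facts k hk
    rw [show dmat (gM k) = fTab k from funext fun i => funext fun j => by
      rw [dmat_eq_dTab (genP_perm hk') (gM_coe hk') parkerImg (11 * k) h1, h2]]

/-- The relation vectors. -/
theorem vecs_ok : ∀ p ∈ parkerVecs,
    p.1 < 28 ∧ (∀ k ∈ relL p.1 ++ relR p.1, k < 7) ∧
    ∀ j : Fin 11, qWord (relL p.1) (Pi.single j 1) + qWord (relR p.1) (Pi.single j 1) =
      ∑ c : Fin 11, bitsW p.2 c * cval (tailR (relR p.1) (Pi.single j 1)) c := by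
  decide +kernel

theorem pairing_fword (v u : V) : pairing (fword v) u = ∑ c : Fin 11, v c * cval u c := by
  refine eq_of_single (f := fun v => pairing (fword v) u)
    (g := fun v => ∑ c : Fin 11, v c * cval u c) (fun a b => by rw [fword_add, pairing_add_left])
    (fun a b => by simp only [Pi.add_apply, add_mul, Finset.sum_add_distrib]) (fun i => ?_) v
  show pairing (fword (Pi.single i 1)) u = _
  rw [pairing, Finset.sum_eq_single (pt (i : ℕ)), Finset.sum_eq_single i]
  · rw [fword, cword, idx_pt (by omega), uget, dif_pos i.isLt]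
  · intro b _ hb; simp [Pi.single_eq_of_ne hb]
  · simp
  · intro p _ hp
    rw [fword]
    by_cases hlt : idx p < 11
    · rw [uget, dif_pos hlt, Pi.single_eq_of_ne, zero_mul]
      intro e
      exact hp (by rw [← pt_idx p, ← e])
    · rw [uget, dif_neg hlt, zero_mul]
  · simp

theorem lift7_rel {r t : ℕ} (h : (r, t) ∈ parkerVecs) :
    eval lift7 (relL r) = eval lift7 (relR r) * ofWord (fword (bitsW t)) := by
  obtain ⟨hr, hk, hj⟩ := vecs_ok (r, t) h
  have hg : ∀ w, (eval lift7 w).g = eval gM w := fun w => map_eval proj (e := lift7) (fun _ => rfl) w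
  have hr' : r < extRels.length := by rw [cocode_lengths.2]; omega
  have hrg : eval gM (relL r) = eval gM (relR r) := rel_M23 hr'
  apply PE.ext
  · rw [mul_g, hg, hg, hrg]
    exact (mul_one _).symm
  funext u
  rw [mul_q, hg]
  show (eval lift7 (relL r)).q u =
    (eval lift7 (relR r)).q u + pairing (fword (bitsW t)) (RM (eval gM (relR r)) u)
  -- both sides differ by an additive function
  set g := eval gM (relR r) with hgdef
  have key : ∀ u, (eval lift7 (relL r)).q u + (eval lift7 (relR r)).q u =
      pairing (fword (bitsW t)) (RM g u) := by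
    refine eq_of_single ?_ ?_ ?_
    · intro a b
      have h1 := (eval lift7 (relL r)).hq a b
      have h2 := (eval lift7 (relR r)).hq a b
      rw [hg, hrg] at h1
      rw [hg] at h2
      rw [← h2] at h1
      revert h1
      generalize (eval lift7 (relL r)).q (a + b) = x1
      generalize (eval lift7 (relL r)).q a = x2
      generalize (eval lift7 (relL r)).q b = x3
      generalize (eval lift7 (relR r)).q (a + b) = x4
      generalize (eval lift7 (relR r)).q a = x5
      generalize (eval lift7 (relR r)).q b = x6
      revert x1 x2 x3 x4 x5 x6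
      decide
    · intro a b; rw [RM_add, pairing_add_right]
    · intro j
      rw [eval_lift7_q _ (fun k hk' => hk k (List.mem_append_left _ hk')),
        eval_lift7_q _ (fun k hk' => hk k (List.mem_append_right _ hk')), hj, pairing_fword,
        hgdef, RM_eval _ (fun k hk' => hk k (List.mem_append_right _ hk'))]
  have h := key u
  revert h
  generalize (eval lift7 (relL r)).q u = x1
  generalize (eval lift7 (relR r)).q u = x2
  generalize pairing (fword (bitsW t)) (RM g u) = x3
  revert x1 x2 x3
  decide

/-- The symbolic changes of lifts. -/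
def freeLift (i : ℕ) : List ℕ := vec fun c => 2 ^ (11 * i + c)

/-- The functional evaluated on a change of lifts. -/
def suppMask : List (ℕ × ℕ) → ℕ
  | [] => 0
  | (r, c) :: l =>
    (vadd (cobW cocodeMats freeLift (relL r)) (cobW cocodeMats freeLift (relR r))).getD c 0 ^^^
      suppMask l

/-- The value of a symbolic vector at a pair. -/
def vecVal : ℕ × ℕ → ZMod 2
  | (r, c) => match parkerVecs.find? fun p => p.1 == r with
    | none => 0
    | some p => bit2 p.2 c

theorem supp_ok : suppMask parkerSupp = 0 ∧ (parkerSupp.map vecVal).sum = 1 ∧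
    ∀ p ∈ parkerSupp, p.2 < 11 ∧ (parkerVecs.find? fun q => q.1 == p.1).isSome = true ∧
      (relL p.1 ++ relR p.1).all (fun i => i < cocodeMats.length) = true := by
  decide +kernel

theorem not_split (H : Subgroup PE) (h1 : H ⊓ proj.ker = ⊥) : H ⊔ proj.ker ≠ ⊤ := by
  intro h2
  have M := cocodeModule proj.ker quotEquiv theta theta_ker theta_surjective theta_conj
  set ι : V → PE := fun u => thetaE proj.ker theta (fword u) with hι
  have hιw : ∀ u, ι u = ofWord (fword u) := fun u => rfl
  have hpr : ∀ x, projM proj.ker quotEquiv x = proj x := fun x => rfl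
  -- lifts inside the complement
  have hex : ∀ i, ∃ h ∈ H, proj h = gM i := by
    intro i
    obtain ⟨x, hx⟩ := proj_surjective (gM i)
    have hx' : x ∈ H ⊔ proj.ker := by rw [h2]; exact Subgroup.mem_top _
    rw [Subgroup.mem_sup_of_normal_right] at hx'
    obtain ⟨h, hh, k, hk, rfl⟩ := hx'
    exact ⟨h, hh, by rw [← hx, map_mul, MonoidHom.mem_ker.mp hk, mul_one]⟩
  choose e heH he using hex
  have hrel : ∀ r, r < extRels.length → eval e (relL r) = eval e (relR r) := by
    intro r hr
    have hH : ∀ w, eval e w ∈ H := fun w => H.list_prod_mem (by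
      intro y hy
      obtain ⟨x, -, rfl⟩ := List.mem_map.mp hy
      exact heH x)
    have : (eval e (relR r))⁻¹ * eval e (relL r) ∈ H ⊓ proj.ker := by
      refine ⟨H.mul_mem (H.inv_mem (hH _)) (hH _), ?_⟩
      show proj _ = 1
      rw [map_mul, map_inv, map_eval proj he,
        map_eval proj he, rel_M23 hr, inv_mul_cancel]
    rw [h1, Subgroup.mem_bot, inv_mul_eq_one] at this
    exact this.symm
  -- the change to the chosen lifts
  have hn : ∀ i, ∃ u, ι u = (e i)⁻¹ * lift7 i := by
    intro i
    apply (M.hker _).mp
    rw [hpr, map_mul, map_inv, he]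
    exact inv_mul_cancel (gM i)
  choose n hn using hn
  let σ : ℕ → ZMod 2 := fun b => n (b / 11) ⟨b % 11, Nat.mod_lt _ (by decide)⟩
  have S : Setup cocodeMats ([] : List (List ℕ × List ℕ)) σ e ι :=
    { hadd := M.hadd
      hinj := M.hinj
      hconj := fun i hi u => M.hconj (e i) i (cocode_lengths.1 ▸ hi) (he i) u
      hrel := fun r hr => absurd hr (by simp) }
  have hv : ∀ i, i < 7 → e i * ι (vval 77 σ (freeLift i)) = lift7 i := by
    intro i hi
    have : vval 77 σ (freeLift i) = n i := by
      funext c
      rw [vval, freeLift, vec_getD _ c.isLt, mval_two_pow (by omega)]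
      show n ((11 * i + (c : ℕ)) / 11) ⟨(11 * i + (c : ℕ)) % 11, _⟩ = n i c
      have e1 : (11 * i + (c : ℕ)) / 11 = i := by omega
      have e2 : (11 * i + (c : ℕ)) % 11 = (c : ℕ) := by omega
      simp only [e1, e2, Fin.eta]
    rw [this, hn, mul_inv_cancel_left]
  -- the functional on both sides
  have hev : ∀ w : List ℕ, (∀ k ∈ w, k < 7) →
      eval (fun i => e i * ι (vval 77 σ (freeLift i))) w = eval lift7 w := by
    intro w hw
    unfold eval
    exact congrArg List.prod (List.map_congr_left fun k hk => hv k (hw k hk))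
  have key : ∀ p ∈ parkerSupp, vecVal p = mval 77 σ
      ((vadd (cobW cocodeMats freeLift (relL p.1)) (cobW cocodeMats freeLift (relR p.1))).getD p.2 0) := by
    rintro ⟨r, c⟩ hp
    obtain ⟨hc, hfind, hall⟩ := supp_ok.2.2 _ hp
    obtain ⟨⟨r', t⟩, hrt⟩ := Option.isSome_iff_exists.mp hfind
    have hr' : r' = r := by simpa using List.find?_some hrt
    subst hr'
    have hmem := List.mem_of_find?_eq_some hrt
    obtain ⟨hr28, hk, -⟩ := vecs_ok _ hmem
    have hr49 : r' < extRels.length := by rw [cocode_lengths.2]; omega
    have hL := lift7_rel hmem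
    rw [List.all_append, Bool.and_eq_true] at hall
    rw [← hev _ (fun k hk' => hk k (List.mem_append_left _ hk')),
      ← hev _ (fun k hk' => hk k (List.mem_append_right _ hk')),
      S.eval_cobW freeLift _ hall.1, S.eval_cobW freeLift _ hall.2, hrel r' hr49, ← hιw,
      mul_assoc, ← M.hadd] at hL
    have h3 := congrFun (M.hinj (mul_left_cancel hL)) ⟨c, hc⟩
    show (match parkerVecs.find? fun p => p.1 == r' with
      | none => 0
      | some p => bit2 p.2 c) = _
    rw [hrt]
    show bit2 t c = _
    rw [Pi.add_apply] at h3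
    simp only [vval] at h3
    rw [show (vadd _ _).getD c 0 = _ from vec_getD _ hc, mval_xor]
    dsimp only at h3 ⊢
    simp only [bitsW] at h3
    revert h3
    generalize bit2 t c = x1
    generalize mval 77 σ ((cobW cocodeMats freeLift (relL r')).getD c 0) = x2
    generalize mval 77 σ ((cobW cocodeMats freeLift (relR r')).getD c 0) = x3
    revert x1 x2 x3
    decide
  have hsum : ∀ l : List (ℕ × ℕ), (∀ p ∈ l, p ∈ parkerSupp) →
      (l.map vecVal).sum = mval 77 σ (suppMask l) := by
    intro l
    induction l with
    | nil => intro _; simp [suppMask, mval_zero]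
    | cons p l ih =>
      intro hl
      obtain ⟨r, c⟩ := p
      rw [List.map_cons, List.sum_cons, suppMask, mval_xor, key _ (hl _ (List.mem_cons_self ..)),
        ih fun q hq => hl q (List.mem_cons_of_mem _ hq)]
  have := hsum parkerSupp fun p hp => hp
  rw [supp_ok.1, supp_ok.2.1, mval_zero] at this
  exact absurd this (by decide)

end PE

end Cfsg.Agent.H13.Ext
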