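import Cfsg.Agent.H13.Ext.CodeSplit
import Cfsg.Agent.H13.Ext.ParkerData

/-!
A factor set on the code words vanishing at the extra point, and the quadratic functions that
measure how far an element of `M23` is from preserving it.
-/

set_option autoImplicit false

namespace Cfsg.Agent.H13.Ext

open Cfsg.Agent.H12

/-- A product in `ZMod 2`, written to evaluate lazily. -/
def sel2 (x y : ZMod 2) : ZMod 2 := if x = 0 then 0 else y

theorem sel2_eq (x y : ZMod 2) : sel2 x y = x * y := by
  rcases (show ∀ x : ZMod 2, x = 0 ∨ x = 1 by decide) x with rfl | rfl <;> simp [sel2]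

theorem z2_eq_of_add {a b : ZMod 2} (h : a + b = 0) : a = b := by
  revert h
  revert a b
  decide

/-- A bit as an element of `ZMod 2`. -/
def bit2 (m j : ℕ) : ZMod 2 := if m.testBit j then 1 else 0

/-- The quadratic function of a matrix above the diagonal. -/
def qform (F : Fin 11 → Fin 11 → ZMod 2) (u : V) : ZMod 2 :=
  ∑ i : Fin 11, sel2 (u i) (∑ k : Fin 11, if i < k then sel2 (u k) (F i k) else 0)

theorem qform_cross {F : Fin 11 → Fin 11 → ZMod 2} (hs : ∀ i k, F i k = F k i)
    (hd : ∀ i, F i i = 0) (u v : V) :
    qform F (u + v) + qform F u + qform F v = ∑ i, ∑ k, u i * v k * F i k := by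
  have h1 : qform F (u + v) + qform F u + qform F v =
      ∑ i, ∑ k, if i < k then (u i * v k + v i * u k) * F i k else 0 := by
    simp only [qform, sel2_eq, Finset.mul_sum, Pi.add_apply, ← Finset.sum_add_distrib]
    refine Finset.sum_congr rfl fun i _ => Finset.sum_congr rfl fun k _ => ?_
    split
    · generalize u i = a
      generalize v i = b
      generalize u k = c
      generalize v k = d
      generalize F i k = e
      revert a b c d e
      decide
    · simp
  have h2 : (∑ i, ∑ k, if i < k then v i * u k * F i k else 0) =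
      ∑ i, ∑ k, if k < i then u i * v k * F i k else (0 : ZMod 2) := by
    rw [Finset.sum_comm]
    refine Finset.sum_congr rfl fun i _ => Finset.sum_congr rfl fun k _ => ?_
    split
    · rw [hs k i]; ring
    · rfl
  rw [h1]
  have h3 : ∀ i k : Fin 11, (if i < k then (u i * v k + v i * u k) * F i k else 0) =
      (if i < k then u i * v k * F i k else 0) + if i < k then v i * u k * F i k else 0 := by
    intro i k
    split
    · ring
    · simp
  simp only [h3, Finset.sum_add_distrib]
  rw [h2]
  simp only [← Finset.sum_add_distrib]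
  refine Finset.sum_congr rfl fun i _ => Finset.sum_congr rfl fun k _ => ?_
  rcases lt_trichotomy i k with h | h | h
  · rw [if_pos h, if_neg (not_lt_of_gt h), add_zero]
  · subst h; simp [hd]
  · rw [if_pos h, if_neg (not_lt_of_gt h), zero_add]

/-- The cubic part. -/
def formT (i k j : Fin 11) : ZMod 2 := bit2 (parkerT.getD (11 * (i : ℕ) + k) 0) j

/-- The quadratic part. -/
def formA (i j : Fin 11) : ZMod 2 := bit2 (parkerA.getD (i : ℕ) 0) j

/-- The factor set. -/
def phi (u v : V) : ZMod 2 :=
  ∑ j : Fin 11, sel2 (v j) ((∑ i : Fin 11, sel2 (u i) (formA i j)) + qform (formT · · j) u)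

theorem formT_facts : (∀ i k j : Fin 11, formT i k j = formT k i j) ∧
    (∀ i j : Fin 11, formT i i j = 0) ∧
    ∀ i k j : Fin 11, formT i k j = (pop (codeBasis.getD (i : ℕ) 0 &&& codeBasis.getD (k : ℕ) 0 &&&
      codeBasis.getD (j : ℕ) 0) : ZMod 2) := by
  decide +kernel

theorem phi_add_right (u v w : V) : phi u (v + w) = phi u v + phi u w := by
  simp only [phi, sel2_eq, Pi.add_apply, add_mul, Finset.sum_add_distrib]

/-- The triple intersection form. -/
def triple (u v w : V) : ZMod 2 := ∑ p : GolayPt, cword u p * cword v p * cword w p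

theorem cval_single (i : Fin 11) (n : ℕ) :
    cval (Pi.single i 1) n = bit2 (codeBasis.getD (i : ℕ) 0) n := by
  rw [cval, Finset.sum_eq_single i]
  · simp [bit2]
  · intro b _ hb; simp [hb]
  · simp

theorem sum_word (m : ℕ) (hm : m < 2 ^ 24) : ∑ p : GolayPt, word m p = (pop m : ZMod 2) := by
  simp only [word]
  rw [Finset.sum_boole, ← card_fin m]
  congr 2

theorem triple_unit (i k j : Fin 11) :
    triple (Pi.single i 1) (Pi.single k 1) (Pi.single j 1) = formT i k j := by
  rw [formT_facts.2.2, ← sum_word]
  · refine Finset.sum_congr rfl fun p _ => ?_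
    simp only [cword, cval_single, bit2, word, Nat.testBit_and]
    cases (codeBasis.getD (i : ℕ) 0).testBit (idx p) <;>
      cases (codeBasis.getD (k : ℕ) 0).testBit (idx p) <;>
      cases (codeBasis.getD (j : ℕ) 0).testBit (idx p) <;> simp
  · exact Nat.lt_of_le_of_lt Nat.and_le_right (code_facts.1 j j.isLt).2.1

theorem triple_eq (u v w : V) : triple u v w = ∑ i, ∑ k, ∑ j, u i * v k * w j * formT i k j := by
  refine eq_of_single (f := fun u => triple u v w)
    (g := fun u => ∑ i, ∑ k, ∑ j, u i * v k * w j * formT i k j) ?_ ?_ (fun a => ?_) u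
  · intro x y
    simp only [triple, cword_add, Pi.add_apply, add_mul, Finset.sum_add_distrib]
  · intro x y
    simp only [Pi.add_apply, add_mul, Finset.sum_add_distrib]
  refine eq_of_single (f := fun v => triple (Pi.single a 1) v w)
    (g := fun v => ∑ i, ∑ k, ∑ j, (Pi.single a 1 : V) i * v k * w j * formT i k j) ?_ ?_
    (fun b => ?_) v
  · intro x y
    simp only [triple, cword_add, Pi.add_apply, mul_add, add_mul, Finset.sum_add_distrib]
  · intro x y
    simp only [Pi.add_apply, mul_add, add_mul, Finset.sum_add_distrib]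
  refine eq_of_single (f := fun w => triple (Pi.single a 1) (Pi.single b 1) w)
    (g := fun w => ∑ i, ∑ k, ∑ j, (Pi.single a 1 : V) i * (Pi.single b 1 : V) k * w j *
      formT i k j) ?_ ?_ (fun c => ?_) w
  · intro x y
    simp only [triple, cword_add, Pi.add_apply, mul_add, Finset.sum_add_distrib]
  · intro x y
    simp only [Pi.add_apply, mul_add, add_mul, Finset.sum_add_distrib]
  show triple _ _ _ = _
  rw [triple_unit, Finset.sum_eq_single a, Finset.sum_eq_single b, Finset.sum_eq_single c]
  · simp
  all_goals first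
    | (intro x _ hx; simp [Pi.single_eq_of_ne hx])
    | simp

theorem phi_defect (u u' v : V) : phi (u + u') v + phi u v + phi u' v = triple u u' v := by
  rw [triple_eq, Finset.sum_comm_cycle]
  simp only [phi, sel2_eq, ← Finset.sum_add_distrib]
  refine Finset.sum_congr rfl fun j _ => ?_
  have hq := qform_cross (F := (formT · · j)) (fun i k => formT_facts.1 i k j)
    (fun i => formT_facts.2.1 i j) u u'
  simp only [Pi.add_apply, add_mul, Finset.sum_add_distrib]
  have h := congrArg (fun z => v j * z) hq
  simp only [Finset.mul_sum] at h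
  rw [← Finset.sum_add_distrib]
  calc _ = v j * (qform (formT · · j) (u + u') + qform (formT · · j) u + qform (formT · · j) u') := by
        generalize qform (formT · · j) (u + u') = x
        generalize qform (formT · · j) u = y
        generalize qform (formT · · j) u' = z
        generalize v j = t
        rw [Finset.sum_add_distrib]
        generalize (∑ i, u i * formA i j) = a
        generalize (∑ i, u' i * formA i j) = b
        revert a b x y z t
        decide
    _ = _ := by
        rw [h]
        exact Finset.sum_congr rfl fun i _ => Finset.sum_congr rfl fun k _ => by ring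

/-- The coordinates of a code word moved by an element of `M23`. -/
def RM (g : ↥Spor.M23) (u : V) : V := fun c =>
  cword u ((g : Equiv.Perm GolayPt) (pt (codePivots.getD (c : ℕ) 0)))

theorem code_comp {g : Equiv.Perm GolayPt} (hg : g ∈ M24) {w : GolayPt → ZMod 2}
    (hw : w ∈ golayCode) : w ∘ ⇑g ∈ golayCode := by
  have h := H11.mem_M24_iff.mp (Subgroup.inv_mem _ hg) w hw
  rwa [show (g⁻¹).symm = g from rfl] at h

theorem cword_RM (g : ↥Spor.M23) (u : V) :
    cword (RM g u) = cword u ∘ ⇑(g : Equiv.Perm GolayPt) := by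
  obtain ⟨hg, hfix⟩ := Subgroup.mem_inf.mp g.2
  refine cword_surj (w := cword u ∘ ⇑(g : Equiv.Perm GolayPt)) (code_comp hg (cword_mem u).1) ?_
  rw [Function.comp_apply, show (g : Equiv.Perm GolayPt) none = none from hfix]
  exact (cword_mem u).2

theorem RM_add (g : ↥Spor.M23) (u v : V) : RM g (u + v) = RM g u + RM g v := by
  funext c
  simp only [RM, Pi.add_apply, cword_add]

theorem RM_one (u : V) : RM 1 u = u := cword_inj (by rw [cword_RM]; rfl)

theorem RM_mul (g h : ↥Spor.M23) (u : V) : RM (g * h) u = RM h (RM g u) :=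
  cword_inj (by rw [cword_RM, cword_RM, cword_RM, Subgroup.coe_mul]; rfl)

theorem RM_gM {k : ℕ} (hk : k < extGens.length) (u : V) :
    RM (gM k) u = lin (codeMats.getD k []) u :=
  cword_inj (by rw [cword_RM, cword_conj hk])

theorem triple_RM (g : ↥Spor.M23) (u v w : V) :
    triple (RM g u) (RM g v) (RM g w) = triple u v w := by
  simp only [triple, cword_RM, Function.comp_apply]
  exact Equiv.sum_comp (g : Equiv.Perm GolayPt) (fun p => cword u p * cword v p * cword w p)

/-- The change of the factor set under an element of `M23`. -/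
def dform (g : ↥Spor.M23) (u v : V) : ZMod 2 := phi (RM g u) (RM g v) + phi u v

theorem dform_add_right (g : ↥Spor.M23) (u v w : V) :
    dform g u (v + w) = dform g u v + dform g u w := by
  simp only [dform, RM_add, phi_add_right]
  abel

theorem dform_add_left (g : ↥Spor.M23) (u u' v : V) :
    dform g (u + u') v = dform g u v + dform g u' v := by
  have h1 := phi_defect (RM g u) (RM g u') (RM g v)
  rw [← RM_add, triple_RM, ← phi_defect u u' v] at h1
  simp only [dform]
  revert h1
  generalize phi (RM g (u + u')) (RM g v) = a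
  generalize phi (RM g u) (RM g v) = b
  generalize phi (RM g u') (RM g v) = c
  generalize phi (u + u') v = a'
  generalize phi u v = b'
  generalize phi u' v = c'
  revert a b c a' b' c'
  decide

theorem dform_mul (g h : ↥Spor.M23) (u v : V) :
    dform (g * h) u v = dform h (RM g u) (RM g v) + dform g u v := by
  simp only [dform, RM_mul]
  generalize phi (RM h (RM g u)) (RM h (RM g v)) = a
  generalize phi (RM g u) (RM g v) = b
  generalize phi u v = c
  revert a b c
  decide

/-- The matrix of the polar form. -/
def dmat (g : ↥Spor.M23) (i k : Fin 11) : ZMod 2 := dform g (Pi.single i 1) (Pi.single k 1)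

theorem dform_eq (g : ↥Spor.M23) (u v : V) : dform g u v = ∑ i, ∑ k, u i * v k * dmat g i k := by
  refine eq_of_single (f := fun u => dform g u v) (g := fun u => ∑ i, ∑ k, u i * v k * dmat g i k)
    (fun x y => dform_add_left g x y v) ?_ (fun a => ?_) u
  · intro x y
    simp only [Pi.add_apply, add_mul, Finset.sum_add_distrib]
  refine eq_of_single (f := fun v => dform g (Pi.single a 1) v)
    (g := fun v => ∑ i, ∑ k, (Pi.single a 1 : V) i * v k * dmat g i k)
    (fun x y => dform_add_right g _ x y) ?_ (fun b => ?_) v
  · intro x y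
    simp only [Pi.add_apply, mul_add, add_mul, Finset.sum_add_distrib]
  show dmat g a b = _
  rw [Finset.sum_eq_single a, Finset.sum_eq_single b]
  · simp
  all_goals first
    | (intro x _ hx; simp [Pi.single_eq_of_ne hx])
    | simp

/-- The coordinate vector of a number. -/
def bitsW (t : ℕ) : V := fun c => bit2 t c

/-- The polar form computed from the images of the unit vectors. -/
def dTab (img : List ℕ) (off : ℕ) (i k : Fin 11) : ZMod 2 :=
  phi (bitsW (img.getD (off + (i : ℕ)) 0)) (bitsW (img.getD (off + (k : ℕ)) 0)) +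
    phi (Pi.single i 1) (Pi.single k 1)

theorem dmat_eq_dTab {g : ↥Spor.M23} {P : ℕ} (hP : isPerm P = true)
    (hg : (g : Equiv.Perm GolayPt) = permOf P) (img : List ℕ) (off : ℕ)
    (h : ∀ i c : Fin 11, cval (Pi.single i 1) (app P (codePivots.getD (c : ℕ) 0)) =
      bit2 (img.getD (off + (i : ℕ)) 0) c) (i k : Fin 11) :
    dmat g i k = dTab img off i k := by
  have hR : ∀ a : Fin 11, RM g (Pi.single a 1) = bitsW (img.getD (off + (a : ℕ)) 0) := by
    intro a
    funext c
    have hc : codePivots.getD (c : ℕ) 0 < 24 := Nat.lt_trans (code_facts.1 c c.isLt).2.2.2.1 (by decide)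
    rw [RM, hg, permOf_pt hP hc, cword, idx_pt (app_lt hP hc), h, bitsW]
  rw [dmat, dform, hR, hR, dTab]

/-- The generators of `M23`. -/
theorem g23_tab : ∀ n : Fin 2,
    (∀ i c : Fin 11, cval (Pi.single i 1)
        (app (pack (Data.g23.getD (n : ℕ) ([], [])).1) (codePivots.getD (c : ℕ) 0)) =
      bit2 (parkerImg23.getD (11 * (n : ℕ) + (i : ℕ)) 0) c) ∧
    ∀ i k : Fin 11, i ≤ k → dTab parkerImg23 (11 * (n : ℕ)) i k =
      dTab parkerImg23 (11 * (n : ℕ)) k i ∧
      (i = k → dTab parkerImg23 (11 * (n : ℕ)) i k = 0) := by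
  decide +kernel

/-- The polar form of `g` is alternating. -/
def AltForm (g : ↥Spor.M23) : Prop := ∀ u, dform g u u = 0

theorem altForm_of_mat {g : ↥Spor.M23} (hs : ∀ i k, dmat g i k = dmat g k i)
    (hd : ∀ i, dmat g i i = 0) : AltForm g := by
  intro u
  rw [dform_eq, ← qform_cross hs hd, show u + u = 0 from funext fun c => CharTwo.add_self_eq_zero _,
    add_assoc, CharTwo.add_self_eq_zero, add_zero]
  simp [qform, sel2]

theorem altForm_all (g : ↥Spor.M23) : AltForm g := by
  let S : Subgroup ↥Spor.M23 :=
    { carrier := {g | AltForm g}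
      one_mem' := fun u => by simp [dform, RM_one, CharTwo.add_self_eq_zero]
      mul_mem' := fun {a b} ha hb u => by
        rw [dform_mul, show dform b (RM a u) (RM a u) = 0 from hb _,
          show dform a u u = 0 from ha u, add_zero]
      inv_mem' := fun {a} ha u => by
        have h := dform_mul a⁻¹ a u u
        rw [inv_mul_cancel, show dform a (RM a⁻¹ u) (RM a⁻¹ u) = 0 from ha _, zero_add] at h
        rw [← h]
        simp [dform, RM_one, CharTwo.add_self_eq_zero] }
  suffices h : Spor.M23 ≤ S.map Spor.M23.subtype by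
    obtain ⟨x, hx, hxe⟩ := h g.2
    obtain rfl : x = g := Subtype.ext hxe
    exact hx
  conv_lhs => rw [M23_eq]
  refine grp_le Data.g23_valid fun a ha σ hσ => ?_
  have hmem : σ ∈ Spor.M23 := by
    rw [M23_eq, mem_grp]
    obtain ⟨τ, -, hτ⟩ := valid_all Data.g23_valid a ha
    rw [show toFin σ = τ from img_injective (hσ.trans (by rw [hτ]))]
    exact Subgroup.subset_closure (show (img τ, img τ⁻¹) ∈ Data.g23 from hτ ▸ ha)
  obtain ⟨n, hn, rfl⟩ := List.getElem_of_mem ha
  have hn2 : n < 2 := hn
  obtain ⟨h1, h2⟩ := g23_tab ⟨n, hn2⟩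
  have hget : (Data.g23.getD n ([], [])) = Data.g23[n] := by
    rw [List.getD_eq_getElem?_getD, List.getElem?_eq_getElem hn, Option.getD_some]
    rfl
  have hP : pack (Data.g23.getD n ([], [])).1 = pack (img (toFin σ)) := by
    rw [hget]; exact congrArg pack hσ.symm
  have hgσ : σ = permOf (pack (Data.g23.getD n ([], [])).1) := by
    rw [hP, (permOf_pack_img _).2, toFin.symm_apply_apply]
  have hperm : isPerm (pack (Data.g23.getD n ([], [])).1) = true := by
    rw [hP]; exact (permOf_pack_img _).1
  have ht := dmat_eq_dTab (g := ⟨σ, hmem⟩) hperm hgσ parkerImg23 (11 * n) h1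
  refine ⟨⟨σ, hmem⟩, altForm_of_mat (fun i k => ?_) (fun i => ?_), rfl⟩
  · rw [ht, ht]
    rcases le_total i k with h | h
    · exact (h2 i k h).1
    · exact (h2 k i h).1.symm
  · rw [ht]
    exact (h2 i i le_rfl).2 rfl

theorem dmat_symm (g : ↥Spor.M23) (i k : Fin 11) : dmat g i k = dmat g k i := by
  have h := altForm_all g (Pi.single i 1 + Pi.single k 1)
  rw [dform_add_left, dform_add_right, dform_add_right, altForm_all g, altForm_all g, zero_add,
    add_zero] at h
  exact z2_eq_of_add h

theorem dmat_diag (g : ↥Spor.M23) (i : Fin 11) : dmat g i i = 0 := altForm_all g _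

/-- A quadratic function with polar form `dform g`. -/
def qOf (g : ↥Spor.M23) (u : V) : ZMod 2 := qform (dmat g) u

theorem qOf_polar (g : ↥Spor.M23) (u v : V) :
    qOf g (u + v) + qOf g u + qOf g v = dform g u v := by
  rw [dform_eq, qOf, qOf, qOf, qform_cross (dmat_symm g) (dmat_diag g)]

end Cfsg.Agent.H13.Ext
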